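import Cfsg.Agent.Lib.OddLocal.ScnThree.Setup
import Cfsg.Agent.Lib.Cores.CoprimeGen

/-!
A maximal subgroup over `A` whose Fitting subgroup has rank at least three has two commuting elements moved by a
cube `B` of `A`, with different centralisers in `B`.
-/

set_option autoImplicit false
set_option linter.unusedSectionVars false

namespace CfsgLib.OddLocal.ScnThree

open Cfsg Subgroup
open scoped commutatorElement
open CfsgLib.Solvable (nilPart nilPart_le le_nilPart isPGroup_nilPart)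
open CfsgLib.PGroup (elemAb_zpowers elemAb_sup elemAb_comm elemAb_mono)

variable {G : Type*} [Group G] [Finite G] {p : ℕ} [hp : Fact p.Prime]

omit [Finite G] hp in
theorem mem_zpowers_comm {x y : G} (h : x * y = y * x) :
    ∀ a ∈ zpowers x, ∀ b ∈ zpowers y, a * b = b * a := by
  rintro _ ⟨i, rfl⟩ _ ⟨j, rfl⟩
  exact ((show Commute x y from h).zpow_zpow i j).eq

theorem card_sq_le {q : ℕ} [hq : Fact q.Prime] {E : Subgroup G} (hE : IsElementaryAbelian q E) {c c' : G}
    (hc : c ∈ E) (hc1 : c ≠ 1) (hc' : c' ∈ E) (hn : c' ∉ zpowers c) : q ^ 2 ≤ Nat.card E := by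
  obtain ⟨n, hn'⟩ := CfsgLib.PGroup.elemAb_card hE
  have hlt : zpowers c < E := lt_of_le_of_ne (zpowers_le.2 hc) fun e => hn (e ▸ hc')
  have h1 : q < Nat.card E := by
    have := CfsgLib.PGroup.elemAb_orderOf hE hc hc1
    rw [← this, ← Nat.card_zpowers]
    exact Set.Finite.card_lt_card (Set.toFinite _) (SetLike.coe_ssubset_coe.2 hlt)
  rw [hn'] at h1 ⊢
  exact Nat.pow_le_pow_right hq.out.pos
    ((Nat.pow_lt_pow_iff_right hq.out.one_lt).1 (by rwa [pow_one] : q ^ 1 < q ^ n))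

theorem IsCube.exists_plane_le {A B B' : Subgroup G} (hB : IsCube p A B) (hle : B' ≤ B)
    (hi : B'.relIndex B ≤ p) : ∃ D : Subgroup G, D ≤ B' ∧ Nat.card D = p ^ 2 := by
  have h1 : Nat.card B' * B'.relIndex B = p ^ 3 := by
    rw [← Nat.card_congr (subgroupOfEquivOfLe hle).toEquiv, ← hB.card]
    exact card_mul_index _
  obtain ⟨i, hi3, hi'⟩ := (Nat.dvd_prime_pow hp.out).1 (Dvd.intro _ h1)
  have hi2 : 2 ≤ i := by
    by_contra hlt
    have h2 : p ^ 3 ≤ p ^ i * p := by
      rw [← h1, hi']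
      exact Nat.mul_le_mul_left _ hi
    rw [← pow_succ] at h2
    have := (Nat.pow_le_pow_iff_right hp.out.one_lt).1 h2
    omega
  obtain ⟨K, hK⟩ := Sylow.exists_subgroup_card_pow_prime p (hi' ▸ pow_dvd_pow p hi2)
  exact ⟨K.map B'.subtype, map_subtype_le _, (card_map_of_injective B'.subtype_injective).trans hK⟩

theorem IsCube.exists_fixed_outside {A B Z S : Subgroup G} (hB : IsCube p A B) (hZ : (Nat.card Z).Coprime p)
    (hBZ : B ≤ normalizer (Z : Set G)) (hZS : ¬ Z ≤ S) :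
    ∃ D : Subgroup G, D ≤ B ∧ Nat.card D = p ^ 2 ∧
      ∃ c ∈ Z, c ∉ S ∧ D ≤ centralizer ({c} : Set G) := by
  by_contra hcon
  refine hZS (CfsgLib.Cores.le_of_hyperplanes hB.elem hZ hBZ fun B' hB' hi c hc => ?_)
  obtain ⟨D, hDB', hD⟩ := hB.exists_plane_le hB' hi
  by_contra hcS
  exact hcon ⟨D, hDB'.trans hB', hD, c, hc.1, hcS, fun d hd =>
    mem_centralizer_singleton_iff.2 (mem_centralizer_iff.1 hc.2 d (hDB' hd))⟩

theorem IsCube.plane_eq {A B D : Subgroup G} (hB : IsCube p A B) (hDB : D ≤ B) (hD : Nat.card D = p ^ 2)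
    {c : G} (hDc : D ≤ centralizer ({c} : Set G)) (hn : ¬ B ≤ centralizer ({c} : Set G)) :
    B ⊓ centralizer ({c} : Set G) = D := by
  obtain ⟨i, hi3, hi⟩ := (Nat.dvd_prime_pow hp.out).1
    (hB.card ▸ card_dvd_of_le (inf_le_left : B ⊓ centralizer ({c} : Set G) ≤ B))
  have hne : i ≠ 3 := by
    rintro rfl
    exact hn ((eq_of_le_of_card_ge inf_le_left (by rw [hB.card, hi])).symm.le.trans inf_le_right)
  refine (eq_of_le_of_card_ge (le_inf hDB hDc) ?_).symm
  rw [hi, hD]
  exact Nat.pow_le_pow_right hp.out.pos (by omega)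

theorem IsCube.le_centralizer_of_le {A B D : Subgroup G} (hB : IsCube p A B) (hDB : D ≤ B) :
    B ≤ centralizer (D : Set G) := fun _ hb => mem_centralizer_iff.2 fun _ hd =>
  elemAb_comm hB.elem (hDB hd) hb

namespace ScnHyp

variable {P : Sylow p G} {A : Subgroup G} (h : ScnHyp P A)
include h

variable {B M : Subgroup G} (hB : IsCube p A B) (hM : IsCoatom M) (hAM : A ≤ M) {q : ℕ} [hq : Fact q.Prime]
  (hF : ¬ PRankLE q 2 (fittingOf M))
include hB hM hAM hF

omit hAM hF in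
theorem false_of_plane {Y D : Subgroup G} (hU : InUniqueMaximal Y) (hDB : D ≤ B) (hD : Nat.card D = p ^ 2)
    (hDY : D ≤ centralizer (Y : Set G)) : False :=
  h.not_le_centralizer_of_inUnique hU (hDB.trans hB.le) (elemAb_mono hB.elem hDB) hD.ge hDY

/-- Two commuting elements with distinct planes generating a member of `𝒰`. -/
theorem exists_pair : ∃ x₁ x₂ : G, x₁ ∈ nilPart q (fittingOf M) ∧ x₂ ∈ nilPart q (fittingOf M) ∧
    orderOf x₁ = q ∧ orderOf x₂ = q ∧ x₁ * x₂ = x₂ * x₁ ∧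
    B ≤ normalizer (zpowers x₁ : Set G) ∧ B ≤ normalizer (zpowers x₂ : Set G) ∧
    Nat.card ↥(B ⊓ centralizer ({x₁} : Set G)) = p ^ 2 ∧ Nat.card ↥(B ⊓ centralizer ({x₂} : Set G)) = p ^ 2 ∧
    B ⊓ centralizer ({x₁} : Set G) ≠ B ⊓ centralizer ({x₂} : Set G) ∧
    InUniqueMaximal (zpowers x₁ ⊔ zpowers x₂) := by
  have hG := h.minSimple
  have hqp := h.ne_of_large hM hF
  have hodd : Odd (Nat.card G) := hG.1
  set H := nilPart q (fittingOf M) with hH
  have hHq : IsPGroup q H := isPGroup_nilPart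
  have hBH : B ≤ normalizer (H : Set G) := (hB.le.trans hAM).trans (le_normalizer_nilPart_fittingOf q M)
  have hcopH : ∀ Z : Subgroup G, Z ≤ H → (Nat.card Z).Coprime p := by
    intro Z hZ
    obtain ⟨i, hi⟩ := IsPGroup.iff_card.1 (hHq.to_le hZ)
    rw [hi]
    exact ((Nat.coprime_primes hq.out hp.out).2 hqp).pow_left i
  obtain ⟨E, hEH, hE, hEc⟩ := h.exists_cube_fitting hM hF
  have hEU := h.inUnique_of_large hM hF hE hEc
  have hUofC : ∀ Y : Subgroup G, IsElementaryAbelian q Y → q ^ 2 ≤ Nat.card Y →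
      ∀ L : Subgroup G, InUniqueMaximal L → Y ≤ centralizer (L : Set G) → InUniqueMaximal Y :=
    fun Y hY hYc L hL hle => inUnique_of_centralizes hG hL hle le_rfl hY hYc
  set Zc := H ⊓ centralizer (H : Set G) with hZc
  have hZcc : ∀ a ∈ Zc, ∀ b ∈ Zc, a * b = b * a := fun a ha b hb => (mem_centralizer_iff.1 hb.2 a ha.1)
  set Z₁ := omegaOne q Zc with hZ₁
  have hZ₁H : Z₁ ≤ H := (CfsgLib.PGroup.omegaOne_le q Zc).trans inf_le_left
  have hZ₁C : Z₁ ≤ centralizer (H : Set G) := (CfsgLib.PGroup.omegaOne_le q Zc).trans inf_le_right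
  have hZ₁e : IsElementaryAbelian q Z₁ := CfsgLib.PGroup.elemAb_omegaOne_of_comm hZcc
  have hBZc : B ≤ normalizer (Zc : Set G) :=
    CfsgLib.Solvable.le_normalizer_inf hBH (hBH.trans (CfsgLib.Solvable.normalizer_le_normalizer_centralizer H))
  have hBZ₁ : B ≤ normalizer (Z₁ : Set G) := fun b hb => CfsgLib.Solvable.mem_normalizer_of_conj_mem fun z hz =>
    CfsgLib.PGroup.omegaOne_mono (le_of_eq (show Zc.map (MulAut.conj b).toMonoidHom = Zc from
      mem_normalizer_iff_map_conj_eq.1 (hBZc hb))) (CfsgLib.PGroup.map_omegaOne_le q _ Zc ⟨z, hz, rfl⟩)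
  obtain ⟨z, hzF, hzo, hzc⟩ := CfsgLib.Solvable.exists_central_of_prime_dvd (p := q) (isNilpotent_fittingOf M) (by
    obtain ⟨i, hi⟩ := CfsgLib.PGroup.elemAb_card hE
    refine (dvd_pow_self q (fun h0 : i = 0 => ?_)).trans
      (hi ▸ card_dvd_of_le (hEH.trans nilPart_le))
    rw [hi, h0, pow_zero] at hEc
    exact (Nat.one_lt_pow three_ne_zero hq.out.one_lt).not_ge hEc)
  have hzH : z ∈ H := CfsgLib.Solvable.mem_nilPart (isNilpotent_fittingOf M) hzF (i := 1) (by rw [pow_one, hzo])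
  have hz1 : z ≠ 1 := fun e => hq.out.ne_one (by rw [← hzo, e, orderOf_one])
  have hzq : z ^ q = 1 := hzo ▸ pow_orderOf_eq_one z
  have hzZ₁ : z ∈ Z₁ := CfsgLib.PGroup.mem_omegaOne
    ⟨hzH, mem_centralizer_iff.2 fun x hx => hzc x (nilPart_le hx)⟩ hzq
  have pow_of_mem : ∀ {c : G}, c ^ q = 1 → c ≠ 1 → orderOf c = q := fun h1 h2 => orderOf_eq_prime h1 h2
  -- a fixed-point group of a plane of order `q` is normalised by `B`
  have hnorm : ∀ (Z D : Subgroup G) (c : G), B ≤ normalizer (Z : Set G) → D ≤ B → c ∈ Z →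
      D ≤ centralizer ({c} : Set G) →
      (∀ c' ∈ Z, c' ≠ 1 → D ≤ centralizer ({c'} : Set G) → c' ∈ zpowers c) →
      B ≤ normalizer (zpowers c : Set G) := by
    intro Z D c hBZ hDB hc hDc hall
    have he : Z ⊓ centralizer (D : Set G) = zpowers c := by
      refine le_antisymm (fun w hw => ?_) (zpowers_le.2 ⟨hc, ?_⟩)
      · rcases eq_or_ne w 1 with rfl | hw1
        · exact one_mem _
        exact hall w hw.1 hw1 fun d hd => mem_centralizer_singleton_iff.2 (mem_centralizer_iff.1 hw.2 d hd)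
      · exact mem_centralizer_iff.2 fun d hd => mem_centralizer_singleton_iff.1 (hDc hd)
    rw [← he]
    exact CfsgLib.Solvable.le_normalizer_inf hBZ ((hB.le_centralizer_of_le hDB).trans
      ((centralizer_le_normalizer _).trans (CfsgLib.Solvable.normalizer_le_normalizer_centralizer D)))
  have hpair : ∀ {D : Subgroup G} {a b : G}, D ≤ B → Nat.card D = p ^ 2 → D ≤ centralizer ({a} : Set G) →
      D ≤ centralizer ({b} : Set G) → InUniqueMaximal (zpowers a ⊔ zpowers b) → False := by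
    intro D a b hDB hD ha hb hU
    exact h.false_of_plane hB hM hU hDB hD (le_centralizer_iff.1
      (sup_le (le_centralizer_iff.1 (le_centralizer_zpowers ha)) (le_centralizer_iff.1 (le_centralizer_zpowers hb))))
  by_cases hbig : q ^ 2 ≤ Nat.card Z₁
  · -- the noncyclic case
    have hU : ∀ a ∈ Z₁, ∀ b ∈ Z₁, a ≠ 1 → b ∉ zpowers a → InUniqueMaximal (zpowers a ⊔ zpowers b) := by
      intro a ha b hb ha1 hab
      have hle : zpowers a ⊔ zpowers b ≤ Z₁ := sup_le (zpowers_le.2 ha) (zpowers_le.2 hb)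
      exact hUofC _ (elemAb_mono hZ₁e hle)
        (card_sq_le (elemAb_mono hZ₁e hle) (mem_sup_left (mem_zpowers a)) ha1
          (mem_sup_right (mem_zpowers b)) hab) E hEU ((hle.trans hZ₁C).trans (centralizer_le hEH))
    have hone : ∀ {D : Subgroup G} {c : G}, D ≤ B → Nat.card D = p ^ 2 → c ∈ Z₁ → c ≠ 1 →
        D ≤ centralizer ({c} : Set G) → B ≤ normalizer (zpowers c : Set G) := by
      intro D c hDB hD hc hc1 hDc
      refine hnorm Z₁ D c hBZ₁ hDB hc hDc fun c' hc' _ hDc' => ?_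
      by_contra hn
      exact hpair hDB hD hDc hDc' (hU c hc c' hc' hc1 hn)
    obtain ⟨D₁, hD₁B, hD₁, c₁, hc₁, hc₁S, hD₁c⟩ := hB.exists_fixed_outside (hcopH _ hZ₁H) hBZ₁ (S := ⊥)
      (fun hle => by
        rw [le_bot_iff.1 hle, card_bot] at hbig
        exact (Nat.one_lt_pow two_ne_zero hq.out.one_lt).not_ge hbig)
    have hc₁1 : c₁ ≠ 1 := fun e => hc₁S (mem_bot.2 e)
    have hc₁o : orderOf c₁ = q := pow_of_mem (hZ₁e.2 c₁ hc₁) hc₁1
    obtain ⟨D₂, hD₂B, hD₂, c₂, hc₂, hc₂S, hD₂c⟩ := hB.exists_fixed_outside (hcopH _ hZ₁H) hBZ₁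
      (S := zpowers c₁) (fun hle => by
        have := hbig.trans (card_le_of_le hle)
        rw [Nat.card_zpowers, hc₁o] at this
        exact absurd this (not_le.2 (lt_self_pow₀ hq.out.one_lt one_lt_two)))
    have hc₂1 : c₂ ≠ 1 := fun e => hc₂S (e ▸ one_mem _)
    have hUc := hU c₁ hc₁ c₂ hc₂ hc₁1 hc₂S
    have hn₁ : ¬ B ≤ centralizer ({c₁} : Set G) := fun hle => hpair hD₂B hD₂ (hD₂B.trans hle) hD₂c hUc
    have hn₂ : ¬ B ≤ centralizer ({c₂} : Set G) := fun hle => hpair hD₁B hD₁ hD₁c (hD₁B.trans hle) hUc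
    have e₁ := hB.plane_eq hD₁B hD₁ hD₁c hn₁
    have e₂ := hB.plane_eq hD₂B hD₂ hD₂c hn₂
    refine ⟨c₁, c₂, hZ₁H hc₁, hZ₁H hc₂, hc₁o, pow_of_mem (hZ₁e.2 c₂ hc₂) hc₂1, elemAb_comm hZ₁e hc₁ hc₂,
      hone hD₁B hD₁ hc₁ hc₁1 hD₁c, hone hD₂B hD₂ hc₂ hc₂1 hD₂c, by rw [e₁, hD₁], by rw [e₂, hD₂],
      fun e => ?_, hUc⟩
    rw [e₁, e₂] at e
    exact hpair hD₂B hD₂ (e ▸ hD₁c) hD₂c hUc
  · -- the cyclic case
    have hZ₁z : Z₁ = zpowers z := by
      refine le_antisymm (fun w hw => ?_) (zpowers_le.2 hzZ₁)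
      by_contra hn
      exact hbig (card_sq_le hZ₁e hzZ₁ hz1 hw hn)
    have hzZ : zpowers z ≤ centralizer (H : Set G) := hZ₁z ▸ hZ₁C
    let X : Subgroup G :=
      { carrier := {c | c ∈ H ∧ c ^ q = 1 ∧ ∀ k ∈ H, ⁅c, k⁆ ∈ zpowers z}
        one_mem' := ⟨one_mem H, one_pow _, fun k _ => by
          rw [commutatorElement_one_left]; exact one_mem _⟩
        inv_mem' := fun {a} ha => ⟨inv_mem ha.1, by rw [inv_pow, ha.2.1, inv_one], fun k hk => by
          rw [show ⁅a⁻¹, k⁆ = a⁻¹ * ⁅a, k⁆⁻¹ * a by simp only [commutatorElement_def]; group,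
            mem_centralizer_iff.1 (inv_mem (hzZ (ha.2.2 k hk))) a⁻¹ (inv_mem ha.1), inv_mul_cancel_right]
          exact inv_mem (ha.2.2 k hk)⟩
        mul_mem' := fun {a b} ha hb => by
          refine ⟨mul_mem ha.1 hb.1, ?_, fun k hk => ?_⟩
          · have hcen : ⁅(⟨b, hb.1⟩ : H), (⟨a, ha.1⟩ : H)⁆ ∈ center H := mem_center_iff.2 fun w => Subtype.ext
              (mem_centralizer_iff.1 (hzZ (hb.2.2 a ha.1)) w w.2)
            have h1 := CfsgLib.PGroup.mul_pow_of_comm_mem_center hcen q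
            have h2 := congrArg (fun w : H => (w : G)) h1
            simp only [SubmonoidClass.coe_pow, Subgroup.coe_mul] at h2
            obtain ⟨m, hm⟩ : q ∣ q.choose 2 := hq.out.dvd_choose_self two_ne_zero
              (lt_of_le_of_ne hq.out.two_le (Ne.symm (ne_two_of_dvd hG
                (hzo ▸ orderOf_dvd_natCard z))))
            have h3 : ((⁅(⟨b, hb.1⟩ : H), (⟨a, ha.1⟩ : H)⁆ : H) : G) ^ q = 1 := by
              obtain ⟨i, hi⟩ := mem_zpowers_iff.1 (hb.2.2 a ha.1)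
              show ⁅b, a⁆ ^ q = 1
              rw [← hi, ← zpow_natCast, ← zpow_mul, mul_comm, zpow_mul, zpow_natCast, hzq, one_zpow]
            exact h2.trans (by simp only [ha.2.1, hb.2.1, hm, pow_mul, h3, one_pow, mul_one])
          · rw [show ⁅a * b, k⁆ = a * ⁅b, k⁆ * a⁻¹ * ⁅a, k⁆ by simp only [commutatorElement_def]; group,
              mem_centralizer_iff.1 (hzZ (hb.2.2 k hk)) a ha.1, mul_inv_cancel_right]
            exact mul_mem (hb.2.2 k hk) (ha.2.2 k hk) }
    have hXH : X ≤ H := fun c hc => hc.1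
    have hBz : B ≤ normalizer (zpowers z : Set G) := hZ₁z ▸ hBZ₁
    have hBX : B ≤ normalizer (X : Set G) := fun b hb => CfsgLib.Solvable.mem_normalizer_of_conj_mem
      fun c hc => ⟨(mem_normalizer_iff.1 (hBH hb) c).1 hc.1, by rw [conj_pow, hc.2.1, mul_one, mul_inv_cancel],
        fun k hk => by
          rw [show ⁅b * c * b⁻¹, k⁆ = b * ⁅c, b⁻¹ * k * b⁆ * b⁻¹ by simp only [commutatorElement_def]; group]
          exact (mem_normalizer_iff.1 (hBz hb) _).1 (hc.2.2 _ ((mem_normalizer_iff''.1 (hBH hb) k).1 hk))⟩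
    have hXz : ¬ X ≤ zpowers z := by
      intro hle
      have hrk : ¬ PRankLE q 2 H := by
        rw [CfsgLib.PGroup.pRankLE_subgroup_iff]
        exact fun h' => absurd (hEc.trans (h' E hEH hE)) (not_le.2 (Nat.pow_lt_pow_right hq.out.one_lt (by norm_num)))
      obtain ⟨U, hUn, hU, hUc⟩ := CfsgLib.RankGraph.exists_normal_sq hHq hrk
      have hU1 : U ≠ ⊥ := fun e => by
        rw [e, card_bot] at hUc
        exact (Nat.one_lt_pow two_ne_zero hq.out.one_lt).ne hUc
      have : Group.IsNilpotent H := hHq.isNilpotent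
      set C := ⁅U, (⊤ : Subgroup H)⁆ with hC
      have hClt : C < U := Local.commutator_lt_of_isPGroup (hHq.to_subgroup U) (hHq.to_subgroup ⊤)
        (le_top.trans_eq (normalizer_eq_top_iff.2 hUn).symm) hU1
      have hCq : ∀ w ∈ C, (w : G) ∈ zpowers z := by
        intro w hw
        rw [← hZ₁z]
        obtain ⟨i, hi2, hi⟩ := (Nat.dvd_prime_pow hq.out).1 (hUc ▸ card_dvd_of_le hClt.le)
        have hne : i ≠ 2 := fun e => hClt.ne (eq_of_le_of_card_ge hClt.le (by rw [hUc, hi, e]))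
        rcases eq_or_ne w 1 with rfl | hw1
        · exact one_mem _
        have hi1 : i = 1 := by
          rcases Nat.eq_zero_or_pos i with h0 | h0
          · rw [h0, pow_zero] at hi
            exact absurd (mem_bot.1 (eq_bot_of_card_eq _ hi ▸ hw)) hw1
          · omega
        rw [hi1, pow_one] at hi
        have : C.Normal := inferInstance
        have hcen := CfsgLib.PGroup.le_center_of_card_eq hHq C hi hw
        refine CfsgLib.PGroup.mem_omegaOne ⟨w.2, mem_centralizer_iff.2 fun k hk =>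
          congrArg Subtype.val (mem_center_iff.1 hcen ⟨k, hk⟩)⟩ ?_
        exact congrArg Subtype.val (hU.2 w (hClt.le hw))
      have hUX : U.map H.subtype ≤ X := by
        rintro _ ⟨u, hu, rfl⟩
        exact ⟨u.2, congrArg Subtype.val (hU.2 u hu), fun k hk =>
          hCq _ (commutator_mem_commutator hu (mem_top (⟨k, hk⟩ : H)))⟩
      have := (card_le_of_le (hUX.trans hle))
      rw [card_map_of_injective H.subtype_injective, hUc, Nat.card_zpowers, hzo] at this
      exact absurd this (not_le.2 (lt_self_pow₀ hq.out.one_lt one_lt_two))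
    obtain ⟨D, hDB, hD, c, hcX, hcz, hDc⟩ := hB.exists_fixed_outside (hcopH _ hXH) hBX hXz
    have hc1 : c ≠ 1 := fun e => hcz (e ▸ one_mem _)
    have hco : orderOf c = q := pow_of_mem hcX.2.1 hc1
    have hcomz : ∀ {w : G}, w ∈ H → w * z = z * w := fun hw =>
      mem_centralizer_iff.1 (hzZ (mem_zpowers z)) _ hw
    -- `⟨c, z⟩` lies in `𝒰`
    have hW : ∀ {w : G}, w ∈ X → w ∉ zpowers z → InUniqueMaximal (zpowers w ⊔ zpowers z) := by
      intro w hw hwz
      let f : E →* zpowers z :=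
        { toFun := fun e => ⟨⁅w, (e : G)⁆, hw.2.2 e (hEH e.2)⟩
          map_one' := Subtype.ext (commutatorElement_one_right w)
          map_mul' := fun e e' => Subtype.ext (by
            show ⁅w, (e : G) * e'⁆ = ⁅w, (e : G)⁆ * ⁅w, (e' : G)⁆
            rw [show ⁅w, (e : G) * e'⁆ = ⁅w, (e : G)⁆ * ((e : G) * ⁅w, (e' : G)⁆ * (e : G)⁻¹) by
              simp only [commutatorElement_def]; group,
              mem_centralizer_iff.1 (hzZ (hw.2.2 e' (hEH e'.2))) e (hEH e.2), mul_inv_cancel_right]) }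
      set K := f.ker.map E.subtype with hK
      have hKE : K ≤ E := map_subtype_le _
      have hKc : q ^ 2 ≤ Nat.card K := by
        rw [hK, card_map_of_injective E.subtype_injective]
        have h1 : Nat.card f.ker * f.ker.index = Nat.card E := card_mul_index _
        have h2 : f.ker.index ≤ q := by
          rw [index_ker, ← hzo, ← Nat.card_zpowers]
          exact card_le_card_group _
        have h3 : q ^ 2 * q ≤ Nat.card f.ker * q :=
          (le_of_eq (pow_succ q 2).symm).trans (hEc.trans (h1 ▸ Nat.mul_le_mul_left _ h2))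
        exact Nat.le_of_mul_le_mul_right h3 hq.out.pos
      have hKU : InUniqueMaximal K :=
        hUofC K (elemAb_mono hE hKE) hKc E hEU (hKE.trans (le_centralizer_of_elementary hE))
      refine hUofC _ (elemAb_sup (elemAb_zpowers hw.2.1) (elemAb_zpowers hzq)
        (mem_zpowers_comm (hcomz hw.1))) ?_ K hKU (sup_le ?_ ?_)
      · exact card_sq_le (elemAb_sup (elemAb_zpowers hw.2.1) (elemAb_zpowers hzq)
          (mem_zpowers_comm (hcomz hw.1))) (mem_sup_right (mem_zpowers z)) hz1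
          (mem_sup_left (mem_zpowers w)) hwz
      · refine zpowers_le.2 (mem_centralizer_iff.2 ?_)
        rintro _ ⟨e, he, rfl⟩
        exact (commutatorElement_eq_one_iff_mul_comm.1 (congrArg Subtype.val (MonoidHom.mem_ker.1 he))).symm
      · exact zpowers_le.2 (mem_centralizer_iff.2 fun k hk => hcomz (hEH (hKE hk)))
    have hWc := hW hcX hcz
    have hDz : ¬ D ≤ centralizer ({z} : Set G) := fun hle => hpair hDB hD hDc hle hWc
    have hnz : ¬ B ≤ centralizer ({z} : Set G) := fun hle => hDz (hDB.trans hle)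
    obtain ⟨D', hD'B, hD', w, hw, hwS, hD'w⟩ := hB.exists_fixed_outside (Z := zpowers z) (S := ⊥)
      (hcopH _ (zpowers_le.2 hzH)) hBz (fun hle => hz1 (mem_bot.1 (hle (mem_zpowers z))))
    have hD'z : D' ≤ centralizer ({z} : Set G) := fun d hd => mem_centralizer_singleton_iff.2
      ((mem_centralizer_iff.1 (le_centralizer_of_cyclic hq.out
        (Z := zpowers z) (by rw [Nat.card_zpowers, hzo]) hw (fun e => hwS (mem_bot.2 e)) hD'w hd)) z
        (mem_zpowers z)).symm
    have hnc : ¬ B ≤ centralizer ({c} : Set G) := fun hle => hpair hD'B hD' (hD'B.trans hle) hD'z hWc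
    have e₁ := hB.plane_eq hDB hD hDc hnc
    have e₂ := hB.plane_eq hD'B hD' hD'z hnz
    refine ⟨c, z, hcX.1, hzH, hco, hzo, hcomz hcX.1, ?_, hBz, by rw [e₁, hD], by rw [e₂, hD'],
      fun e => hDz ?_, hWc⟩
    · refine hnorm X D c hBX hDB hcX hDc fun c' hc' hc'1 hDc' => ?_
      by_contra hn
      have hcc : c * c' = c' * c := by
        by_contra hne
        refine hDz (fun d hd => ?_)
        have hk : ⁅c, c'⁆ ≠ 1 := fun e => hne (commutatorElement_eq_one_iff_mul_comm.1 e)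
        have hdk : d * ⁅c, c'⁆ = ⁅c, c'⁆ * d := by
          have h1 : Commute d c := mem_centralizer_singleton_iff.1 (hDc hd)
          have h2 : Commute d c' := mem_centralizer_singleton_iff.1 (hDc' hd)
          exact (((h1.mul_right h2).mul_right h1.inv_right).mul_right h2.inv_right).eq
        obtain ⟨i, hi⟩ := mem_zpowers_iff.1 (show z ∈ zpowers ⁅c, c'⁆ by
          have h1 : zpowers ⁅c, c'⁆ = zpowers z := by
            refine eq_of_le_of_card_ge (zpowers_le.2 (hcX.2.2 c' hc'.1)) ?_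
            rw [Nat.card_zpowers, Nat.card_zpowers, hzo]
            have hd' := Subgroup.orderOf_dvd_natCard (zpowers z) (hcX.2.2 c' hc'.1)
            rw [Nat.card_zpowers, hzo] at hd'
            rcases (Nat.dvd_prime hq.out).1 hd' with h' | h'
            · exact absurd (orderOf_eq_one_iff.1 h') hk
            · rw [h']
          exact h1.ge (mem_zpowers z))
        rw [mem_centralizer_singleton_iff, ← hi]
        exact ((show Commute d ⁅c, c'⁆ from hdk).zpow_right i).eq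
      set Y := zpowers c ⊔ zpowers c' with hY
      have hYe : IsElementaryAbelian q Y :=
        elemAb_sup (elemAb_zpowers hcX.2.1) (elemAb_zpowers hc'.2.1) (mem_zpowers_comm hcc)
      have hYc : q ^ 2 ≤ Nat.card Y :=
        card_sq_le hYe (mem_sup_left (mem_zpowers c)) hc1 (mem_sup_right (mem_zpowers c')) hn
      have hDY : D ≤ centralizer (Y : Set G) := le_centralizer_iff.1
        (sup_le (le_centralizer_iff.1 (le_centralizer_zpowers hDc)) (le_centralizer_iff.1 (le_centralizer_zpowers hDc')))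
      have hzY : z ∉ Y := fun hzY => hDz fun d hd =>
        mem_centralizer_singleton_iff.2 (mem_centralizer_iff.1 (hDY hd) z hzY).symm
      have hT : IsElementaryAbelian q (Y ⊔ zpowers z) := by
        refine elemAb_sup hYe (elemAb_zpowers hzq) fun a ha b hb => ?_
        exact mem_centralizer_iff.1 (hzZ hb) a
          ((sup_le (zpowers_le.2 hcX.1) (zpowers_le.2 hc'.1) : Y ≤ H) ha)
      have hTc : q ^ 3 ≤ Nat.card ↥(Y ⊔ zpowers z) := by
        obtain ⟨n, hn'⟩ := CfsgLib.PGroup.elemAb_card hT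
        have hlt : Y < Y ⊔ zpowers z :=
          lt_of_le_of_ne le_sup_left fun e => hzY (e ▸ mem_sup_right (mem_zpowers z))
        have h1 : Nat.card Y < Nat.card ↥(Y ⊔ zpowers z) :=
          Set.Finite.card_lt_card (Set.toFinite _) (SetLike.coe_ssubset_coe.2 hlt)
        rw [hn'] at h1 ⊢
        exact Nat.pow_le_pow_right hq.out.pos
          ((Nat.pow_lt_pow_iff_right hq.out.one_lt).1 (hYc.trans_lt h1))
      exact h.false_of_plane hB hM (hUofC Y hYe hYc _ (h.inUnique_of_large hM hF hT hTc)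
        ((le_sup_left).trans (le_centralizer_of_elementary hT))) hDB hD hDY
    · rw [e₁, e₂] at e
      exact e ▸ hD'z

/-- The elements with their consequences. -/
theorem exists_eig_pair : ∃ x₁ x₂ g : G, g ∈ B ∧ g ≠ 1 ∧ Good M g ∧ Eig p A B M x₁ ∧ Eig p A B M x₂ ∧
    (B ⊓ centralizer ({x₁} : Set G)) ⊓ (B ⊓ centralizer ({x₂} : Set G)) = zpowers g := by
  have hG := h.minSimple
  obtain ⟨x₁, x₂, hx₁, hx₂, ho₁, ho₂, hcomm, hn₁, hn₂, hp₁, hp₂, hne, hU⟩ := h.exists_pair hB hM hAM hF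
  obtain ⟨g, hg1, hg, -⟩ := hB.exists_inter inf_le_left inf_le_left hp₁ hp₂ hne
  have hgI : g ∈ (B ⊓ centralizer ({x₁} : Set G)) ⊓ (B ⊓ centralizer ({x₂} : Set G)) :=
    hg.ge (mem_zpowers g)
  have hHM : nilPart q (fittingOf M) ≤ M := nilPart_le.trans (fittingOf_le M)
  have hYM : zpowers x₁ ⊔ zpowers x₂ ≤ M := sup_le (zpowers_le.2 (hHM hx₁)) (zpowers_le.2 (hHM hx₂))
  obtain ⟨M₀, -, huniq⟩ := hU
  have hMu : ∀ L : Subgroup G, IsCoatom L → zpowers x₁ ⊔ zpowers x₂ ≤ L → L = M := fun L hL hle =>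
    (huniq L ⟨hL, hle⟩).trans (huniq M ⟨hM, hYM⟩).symm
  have hcent : ∀ c : G, c ≠ 1 → x₁ * c = c * x₁ → x₂ * c = c * x₂ → Good M c := by
    intro c hc1 h₁ h₂
    have hle : zpowers x₁ ⊔ zpowers x₂ ≤ centralizer ({c} : Set G) :=
      sup_le (zpowers_le.2 (mem_centralizer_singleton_iff.2 h₁)) (zpowers_le.2 (mem_centralizer_singleton_iff.2 h₂))
    refine ⟨?_, fun L hL hL' => hMu L hL (hle.trans hL')⟩
    obtain ⟨L, hL, hL'⟩ := exists_isCoatom_ge hG (CfsgLib.PStab.centralizer_ne_top_of_minSimple hG hc1)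
    exact hMu L hL (hle.trans hL') ▸ hL'
  have hgood : Good M g := hcent g hg1 (mem_centralizer_singleton_iff.1 hgI.1.2).symm
    (mem_centralizer_singleton_iff.1 hgI.2.2).symm
  have hK : coreA A ≤ M := by
    refine le_trans ?_ hgood.1
    exact coreA_le_centralizer.trans (centralizer_le (Set.singleton_subset_iff.2 (hB.le hgI.1.1)))
  have hcap := h.captures hM hF hAM hK
  have hqp := h.ne_of_large hM hF
  have hx1 : ∀ {x : G}, orderOf x = q → x ≠ 1 := fun ho e => hq.out.ne_one (by rw [← ho, e, orderOf_one])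
  refine ⟨x₁, x₂, g, hgI.1.1, hg1, hgood, ⟨ho₁ ▸ hq.out, ho₁ ▸ hqp, hHM hx₁, hn₁, hp₁, ?_, hK, ho₁ ▸ hcap⟩,
    ⟨ho₂ ▸ hq.out, ho₂ ▸ hqp, hHM hx₂, hn₂, hp₂, ?_, hK, ho₂ ▸ hcap⟩, hg⟩
  · exact (hcent x₁ (hx1 ho₁) rfl hcomm.symm).1
  · exact (hcent x₂ (hx1 ho₂) hcomm rfl).1

end ScnHyp

end CfsgLib.OddLocal.ScnThree
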