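import Cfsg.Agent.Lib.OddLocal.ScnThree.Pair
import Cfsg.Agent.Lib.OddLocal.ScnThree.Eigen
import Cfsg.Agent.Lib.Techniques.SmallCritical
import Cfsg.Agent.S1451

/-!
A second maximal subgroup `R` through `A` and a moved element `x` of `M`: its Fitting subgroup has a characteristic
subgroup `D` of exponent `s` and class two that pins the good points of `M` and `R` to the centraliser of `x`.
-/

set_option autoImplicit false
set_option linter.unusedSectionVars false

namespace CfsgLib.OddLocal.ScnThree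

open Cfsg Subgroup
open scoped commutatorElement
open CfsgLib.Solvable (nilPart nilPart_le le_nilPart isPGroup_nilPart)
open CfsgLib.PGroup (elemAb_zpowers elemAb_sup elemAb_comm elemAb_mono)

variable {G : Type*} [Group G] [Finite G] {p : ℕ} [hp : Fact p.Prime]

/-- The detecting subgroup of the `s`-part of the Fitting subgroup of `R`. -/
structure DData (A R D : Subgroup G) (s : ℕ) : Prop where
  prime : s.Prime
  large : ¬ PRankLE s 2 (fittingOf R)
  le : D ≤ R
  normal : R ≤ normalizer (D : Set G)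
  pGroup : IsPGroup s D
  pow : ∀ d ∈ D, d ^ s = 1
  central : ∀ a ∈ D, ∀ b ∈ D, ∀ c ∈ D, Commute ⁅a, b⁆ c
  rank : ¬ PRankLE s 2 D
  core : coreA A ≤ R

/-- A large part of `E` commutes with `y` if all commutators lie in a central subgroup of order at most `s`. -/
theorem exists_commuting {s : ℕ} [hs : Fact s.Prime] {E Z : Subgroup G} {y : G} (hZ : Nat.card Z ≤ s)
    (hy : ∀ e ∈ E, ⁅y, e⁆ ∈ Z) (hc : ∀ e ∈ E, ∀ z ∈ Z, e * z = z * e) :
    ∃ K ≤ E, Nat.card E ≤ Nat.card K * s ∧ ∀ k ∈ K, y * k = k * y := by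
  let f : E →* Z :=
    { toFun := fun e => ⟨⁅y, (e : G)⁆, hy e e.2⟩
      map_one' := Subtype.ext (commutatorElement_one_right y)
      map_mul' := fun e e' => Subtype.ext (by
        show ⁅y, (e : G) * e'⁆ = ⁅y, (e : G)⁆ * ⁅y, (e' : G)⁆
        rw [show ⁅y, (e : G) * e'⁆ = ⁅y, (e : G)⁆ * ((e : G) * ⁅y, (e' : G)⁆ * (e : G)⁻¹) by
          simp only [commutatorElement_def]; group, hc e e.2 _ (hy e' e'.2), mul_inv_cancel_right]) }
  refine ⟨f.ker.map E.subtype, map_subtype_le _, ?_, ?_⟩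
  · rw [card_map_of_injective E.subtype_injective]
    have h1 : Nat.card f.ker * f.ker.index = Nat.card E := card_mul_index _
    rw [← h1]
    refine Nat.mul_le_mul_left _ ?_
    rw [index_ker]
    exact (card_le_card_group _).trans hZ
  · rintro _ ⟨e, he, rfl⟩
    exact commutatorElement_eq_one_iff_mul_comm.1 (congrArg Subtype.val (MonoidHom.mem_ker.1 he))

namespace ScnHyp

variable {P : Sylow p G} {A : Subgroup G} (h : ScnHyp P A)
include h

section Facts

variable {R D : Subgroup G} (hR : IsCoatom R) {s : ℕ} [hs : Fact s.Prime] (hD : DData A R D s)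
include hR hD

theorem exists_cube_D : ∃ E : Subgroup G, E ≤ D ∧ IsElementaryAbelian s E ∧ s ^ 3 ≤ Nat.card E :=
  exists_elementary_of_not_pRankLE hD.rank

/-- Every elementary plane of `D` lies in `𝒰`. -/
theorem inUnique_sq_D {E : Subgroup G} (hE : IsElementaryAbelian s E) (hED : E ≤ D)
    (hEc : s ^ 2 ≤ Nat.card E) : InUniqueMaximal E := by
  set C := D ⊓ centralizer (E : Set G) with hC
  by_cases hr : ∃ E' : Subgroup G, E' ≤ C ∧ IsElementaryAbelian s E' ∧ s ^ 3 ≤ Nat.card E'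
  · obtain ⟨E', hE'C, hE', hE'c⟩ := hr
    exact inUnique_of_centralizes h.minSimple (h.inUnique_of_large hR hD.large hE' hE'c)
      (le_centralizer_iff.1 (hE'C.trans inf_le_right)) le_rfl hE hEc
  exfalso
  push Not at hr
  have hE2 : Nat.card E = s ^ 2 := by
    obtain ⟨n, hn⟩ := CfsgLib.PGroup.elemAb_card hE
    have h3 := hr E (le_inf hED (le_centralizer_of_elementary hE)) hE
    rw [hn] at hEc h3 ⊢
    have := (Nat.pow_le_pow_iff_right hs.out.one_lt).1 hEc
    have := (Nat.pow_lt_pow_iff_right hs.out.one_lt).1 h3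
    rw [show n = 2 by omega]
  have hCE : C ≤ E := by
    intro c hc
    by_contra hcE
    have hT : IsElementaryAbelian s (E ⊔ zpowers c) := by
      refine elemAb_sup hE (elemAb_zpowers (hD.pow c hc.1)) ?_
      rintro a ha _ ⟨i, rfl⟩
      exact ((show Commute a c from mem_centralizer_iff.1 hc.2 a ha).zpow_right i).eq
    have h3 := hr _ (sup_le (le_inf hED (le_centralizer_of_elementary hE)) (zpowers_le.2 hc)) hT
    obtain ⟨n, hn⟩ := CfsgLib.PGroup.elemAb_card hT
    have hlt : E < E ⊔ zpowers c :=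
      lt_of_le_of_ne le_sup_left fun e => hcE (e ▸ mem_sup_right (mem_zpowers c))
    have h1 : Nat.card E < Nat.card ↥(E ⊔ zpowers c) :=
      Set.Finite.card_lt_card (Set.toFinite _) (SetLike.coe_ssubset_coe.2 hlt)
    rw [hn, hE2] at h1
    rw [hn] at h3
    have := (Nat.pow_lt_pow_iff_right hs.out.one_lt).1 h1
    have := (Nat.pow_lt_pow_iff_right hs.out.one_lt).1 h3
    omega
  have hDn : D ≤ normalizer (E : Set G) := fun d hd => CfsgLib.Solvable.mem_normalizer_of_conj_mem fun e he => by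
    have hk : ⁅d, e⁆ ∈ E := hCE ⟨(mul_mem (mul_mem (mul_mem hd (hED he)) (inv_mem hd)) (inv_mem (hED he)) : ⁅d, e⁆ ∈ D),
      mem_centralizer_iff.2 fun w hw => ((hD.central d hd e (hED he) w (hED hw)).symm).eq⟩
    rw [show d * e * d⁻¹ = ⁅d, e⁆ * e by rw [commutatorElement_def]; group]
    exact mul_mem hk he
  have : (E.subgroupOf D).Normal := (normal_subgroupOf_iff_le_normalizer hED).2 hDn
  obtain ⟨E₃, hE₃D, hE₃, hE₃c⟩ := h.exists_cube_D hR hD
  obtain ⟨K, hKE, hKc, hKcomm⟩ := CfsgLib.RankGraph.exists_le_centralizing hD.pGroup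
    (U := E.subgroupOf D) (by rw [Nat.card_congr (subgroupOfEquivOfLe hED).toEquiv, hE2]) (E₃.subgroupOf D)
  rw [Nat.card_congr (subgroupOfEquivOfLe hE₃D).toEquiv] at hKc
  have hKc' : s ^ 2 ≤ Nat.card K :=
    Nat.le_of_mul_le_mul_left (by rw [← pow_succ']; exact hE₃c.trans hKc) hs.out.pos
  have hKE' : K.map D.subtype ≤ E := by
    rintro _ ⟨k, hk, rfl⟩
    refine hCE ⟨k.2, mem_centralizer_iff.2 fun e he => ?_⟩
    exact (congrArg Subtype.val (hKcomm k hk ⟨e, hED he⟩ he)).symm
  have hEE₃ : E ≤ E₃ := by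
    refine (eq_of_le_of_card_ge hKE' ?_).ge.trans ((map_mono hKE).trans (map_subgroupOf_eq_of_le hE₃D).le)
    rw [hE2, card_map_of_injective D.subtype_injective]
    exact hKc'
  have hle : E₃ ≤ E := fun e he => hCE ⟨hE₃D he,
    mem_centralizer_iff.2 fun w hw => elemAb_comm hE₃ (hEE₃ hw) he⟩
  have := hE₃c.trans ((card_le_of_le hle).trans_eq hE2)
  exact absurd this (not_le.2 (Nat.pow_lt_pow_right hs.out.one_lt (by norm_num)))

omit h hR in
theorem orderOf_D {y : G} (hy : y ∈ D) (hy1 : y ≠ 1) : orderOf y = s := orderOf_eq_prime (hD.pow y hy) hy1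

theorem centralizer_le_D {y : G} (hy : y ∈ D) (hy1 : y ≠ 1) : centralizer ({y} : Set G) ≤ R := by
  obtain ⟨y', hy', hyy', hn⟩ : ∃ y' ∈ D, y * y' = y' * y ∧ y' ∉ zpowers y := by
    by_contra hcon
    push Not at hcon
    obtain ⟨E, hED, hE, hEc⟩ := h.exists_cube_D hR hD
    obtain ⟨K, hKE, hKc, hK⟩ := exists_commuting (s := s) (E := E) (Z := zpowers y) (y := y)
      (by rw [Nat.card_zpowers, orderOf_D hD hy hy1])
      (fun e he => hcon _ (mul_mem (mul_mem (mul_mem hy (hED he)) (inv_mem hy)) (inv_mem (hED he)))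
        (hD.central y hy e (hED he) y hy).symm.eq)
      (fun e he z hz => by
        by_cases hc : ∀ e' ∈ E, ⁅y, e'⁆ = 1
        · obtain ⟨i, rfl⟩ := mem_zpowers_iff.1 hz
          exact ((show Commute e y from (commutatorElement_eq_one_iff_mul_comm.1 (hc e he)).symm).zpow_right i).eq
        · push Not at hc
          obtain ⟨e', he', hne⟩ := hc
          have hmem : ⁅y, e'⁆ ∈ zpowers y :=
            hcon _ (mul_mem (mul_mem (mul_mem hy (hED he')) (inv_mem hy)) (inv_mem (hED he')))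
              (hD.central y hy e' (hED he') y hy).symm.eq
          obtain ⟨j, hj⟩ := mem_zpowers_iff.1
            (mem_zpowers_of_prime (orderOf_D hD hy hy1 ▸ hs.out) hmem hne)
          obtain ⟨i, rfl⟩ := mem_zpowers_iff.1 hz
          rw [← hj]
          exact ((((hD.central y hy e' (hED he') e (hED he)).symm).zpow_right j).zpow_right i).eq)
    have hKle : Nat.card K ≤ s := by
      rw [← orderOf_D hD hy hy1, ← Nat.card_zpowers]
      exact card_le_of_le fun k hk => hcon k (hED (hKE hk)) (hK k hk)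
    have h2 : s ^ 3 ≤ s * s := hEc.trans (hKc.trans (Nat.mul_le_mul_right _ hKle))
    rw [← pow_two] at h2
    exact absurd h2 (not_le.2 (Nat.pow_lt_pow_right hs.out.one_lt (by norm_num)))
  set E := zpowers y ⊔ zpowers y' with hE
  have hEe : IsElementaryAbelian s E :=
    elemAb_sup (elemAb_zpowers (hD.pow y hy)) (elemAb_zpowers (hD.pow y' hy')) (mem_zpowers_comm hyy')
  have hED : E ≤ D := sup_le (zpowers_le.2 hy) (zpowers_le.2 hy')
  obtain ⟨M₀, -, huniq⟩ := h.inUnique_sq_D hR hD hEe hED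
    (card_sq_le hEe (mem_sup_left (mem_zpowers y)) hy1 (mem_sup_right (mem_zpowers y')) hn)
  obtain ⟨L, hL, hle⟩ :=
    exists_isCoatom_ge h.minSimple (CfsgLib.PStab.centralizer_ne_top_of_minSimple h.minSimple hy1)
  have hEy : E ≤ centralizer ({y} : Set G) :=
    sup_le (zpowers_le.2 (mem_centralizer_singleton_iff.2 rfl))
      (zpowers_le.2 (mem_centralizer_singleton_iff.2 hyy'.symm))
  rwa [(huniq L ⟨hL, hEy.trans hle⟩).trans (huniq R ⟨hR, hED.trans hD.le⟩).symm] at hle

variable {B : Subgroup G} (hB : IsCube p A B)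
include hB

/-- A plane fixes at most one cyclic subgroup of `D`. -/
theorem fixed_unique_D {m : Subgroup G} (hmB : m ≤ B) (hm : Nat.card m = p ^ 2) {y y' : G} (hy : y ∈ D)
    (hy1 : y ≠ 1) (hy' : y' ∈ D) (hmy : m ≤ centralizer ({y} : Set G))
    (hmy' : m ≤ centralizer ({y'} : Set G)) : y' ∈ zpowers y := by
  by_contra hn
  obtain ⟨w, hw, hmw, hyw, hwn⟩ :
      ∃ w ∈ D, m ≤ centralizer ({w} : Set G) ∧ y * w = w * y ∧ w ∉ zpowers y := by
    by_cases hk : ⁅y, y'⁆ = 1
    · exact ⟨y', hy', hmy', commutatorElement_eq_one_iff_mul_comm.1 hk, hn⟩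
    refine ⟨⁅y, y'⁆, mul_mem (mul_mem (mul_mem hy hy') (inv_mem hy)) (inv_mem hy'), fun d hd => ?_,
      (hD.central y hy y' hy' y hy).symm.eq, fun hmem => hk ?_⟩
    · rw [mem_centralizer_singleton_iff]
      have h1 : Commute d y := mem_centralizer_singleton_iff.1 (hmy hd)
      have h2 : Commute d y' := mem_centralizer_singleton_iff.1 (hmy' hd)
      exact (((h1.mul_right h2).mul_right h1.inv_right).mul_right h2.inv_right).eq
    · exact commutatorElement_eq_one_iff_mul_comm.2 (commute_of_mem_zpowers (orderOf_D hD hy hy1 ▸ hs.out)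
        hmem hk (hD.central y hy y' hy' y' hy').eq)
  set E := zpowers y ⊔ zpowers w with hE
  have hEe : IsElementaryAbelian s E :=
    elemAb_sup (elemAb_zpowers (hD.pow y hy)) (elemAb_zpowers (hD.pow w hw)) (mem_zpowers_comm hyw)
  refine h.not_le_centralizer_of_inUnique (h.inUnique_sq_D hR hD hEe (sup_le (zpowers_le.2 hy) (zpowers_le.2 hw))
    (card_sq_le hEe (mem_sup_left (mem_zpowers y)) hy1 (mem_sup_right (mem_zpowers w)) hwn))
    (hmB.trans hB.le) (elemAb_mono hB.elem hmB) hm.ge ?_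
  exact le_centralizer_iff.1 (sup_le (le_centralizer_iff.1 (le_centralizer_zpowers hmy))
    (le_centralizer_iff.1 (le_centralizer_zpowers hmw)))

theorem not_centralized_D (hBD : B ≤ normalizer (D : Set G)) {y : G} (hy : y ∈ D) (hy1 : y ≠ 1) :
    ¬ B ≤ centralizer ({y} : Set G) := by
  intro hBy
  have hns : s ≠ p := h.ne_of_large hR hD.large
  obtain ⟨E, hED, hE, hEc⟩ := h.exists_cube_D hR hD
  obtain ⟨m, hmB, hm, c, hc, hcS, hmc⟩ := hB.exists_fixed_outside (Z := D) (S := zpowers y) (by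
    obtain ⟨i, hi⟩ := IsPGroup.iff_card.1 hD.pGroup
    rw [hi]
    exact ((Nat.coprime_primes hs.out hp.out).2 hns).pow_left i) hBD (fun hle => by
      have := hEc.trans (card_le_of_le (hED.trans hle))
      rw [Nat.card_zpowers, orderOf_D hD hy hy1] at this
      exact absurd this (not_le.2 (lt_self_pow₀ hs.out.one_lt (by norm_num))))
  exact hcS (h.fixed_unique_D hR hD hB hmB hm hy hy1 hc (hmB.trans hBy) hmc)

theorem eig_D (hAR : A ≤ R) {m : Subgroup G} (hmB : m ≤ B) (hm : Nat.card m = p ^ 2) {y : G} (hy : y ∈ D)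
    (hy1 : y ≠ 1) (hmy : m ≤ centralizer ({y} : Set G)) :
    Eig p A B R y ∧ B ⊓ centralizer ({y} : Set G) = m := by
  have hBD : B ≤ normalizer (D : Set G) := (hB.le.trans hAR).trans hD.normal
  have e := hB.plane_eq hmB hm hmy (h.not_centralized_D hR hD hB hBD hy hy1)
  refine ⟨⟨orderOf_D hD hy hy1 ▸ hs.out, orderOf_D hD hy hy1 ▸ h.ne_of_large hR hD.large, hD.le hy, ?_,
    by rw [e, hm], h.centralizer_le_D hR hD hy hy1, hD.core,
    orderOf_D hD hy hy1 ▸ h.captures hR hD.large hAR hD.core⟩, e⟩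
  have he : D ⊓ centralizer (m : Set G) = zpowers y := by
    refine le_antisymm (fun w hw => ?_) (zpowers_le.2 ⟨hy, ?_⟩)
    · exact h.fixed_unique_D hR hD hB hmB hm hy hy1 hw.1 hmy fun d hd =>
        mem_centralizer_singleton_iff.2 (mem_centralizer_iff.1 hw.2 d hd)
    · exact mem_centralizer_iff.2 fun d hd => mem_centralizer_singleton_iff.1 (hmy hd)
  rw [← he]
  exact CfsgLib.Solvable.le_normalizer_inf hBD ((hB.le_centralizer_of_le hmB).trans
    ((centralizer_le_normalizer _).trans (CfsgLib.Solvable.normalizer_le_normalizer_centralizer m)))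

end Facts

variable {B M : Subgroup G} (hB : IsCube p A B) (hM : IsCoatom M) {x : G} (hx : Eig p A B M x)
variable (hAM : A ≤ M)
include hB hM hx hAM

theorem exists_large {R : Subgroup G} (hR : IsCoatom R) (hAR : A ≤ R) (hxR : x ∈ R) (hne : R ≠ M) :
    ∃ s : ℕ, s.Prime ∧ ¬ PRankLE s 2 (fittingOf R) := by
  by_contra hcon
  push Not at hcon
  have hG := h.minSimple
  have : Fact (orderOf x).Prime := ⟨hx.prime⟩
  have hRs : Group.IsSolvable R := isSolvable_of_isCoatom hG hR
  have hFi : fittingOf R ≤ R := fittingOf_le R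
  have hsm : RankLE 2 (fittingSubgroup R) := fun s hs => by
    have : Fact s.Prime := ⟨hs⟩
    exact CfsgLib.PGroup.pRankLE_of_injective (hcon s hs)
      (equivMapOfInjective (fittingSubgroup R) R.subtype R.subtype_injective).toMonoidHom
      (equivMapOfInjective _ _ R.subtype_injective).injective
  have hnil := (Cfsg.Agent.S1451.result (hG.1.of_dvd_nat (card_subgroup_dvd_card R)) (Or.inr hsm)).1
  have hRF : ⁅R, R⁆ ≤ fittingOf R := by
    rw [← map_subtype_commutator]
    exact map_mono (CfsgLib.Cores.le_fittingSubgroup hnil)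
  have hAp := h.isPGroup
  -- `x` is in the derived group
  have hxF : x ∈ fittingOf R := by
    obtain ⟨b, hbB, hbx⟩ := SetLike.not_le_iff_exists.1 (hx.not_le hB)
    have hc : ⁅b, x⁆ ∈ zpowers x := mul_mem
      ((mem_normalizer_iff.1 (hx.le_normalizer hbB) x).1 (mem_zpowers x)) (inv_mem (mem_zpowers x))
    have hc1 : ⁅b, x⁆ ≠ 1 := fun e =>
      hbx (mem_centralizer_singleton_iff.2 (commutatorElement_eq_one_iff_mul_comm.1 e))
    exact (zpowers_le.2 (hRF (commutator_mem_commutator (hAR (hB.le hbB)) hxR)))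
      (mem_zpowers_of_prime hx.prime hc hc1)
  have hFnil : Group.IsNilpotent (fittingOf R) := isNilpotent_fittingOf R
  have hxq : x ∈ nilPart (orderOf x) (fittingOf R) :=
    CfsgLib.Solvable.mem_nilPart hFnil hxF (i := 1) (by rw [pow_one])
  have hFM : fittingOf R ≤ M := CfsgLib.Solvable.le_of_nilPart_le hFnil fun r hr _ => by
    have : Fact r.Prime := ⟨hr⟩
    by_cases hrq : r = orderOf x
    · subst hrq
      obtain ⟨Q, hQ, hle⟩ := CfsgLib.PStab.exists_maxInvSubgroup_ge (A := A) (q := orderOf x)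
        (R := nilPart (orderOf x) (fittingOf R))
        ⟨le_top, CfsgLib.PStab.isPGroup_iff_primes.1 isPGroup_nilPart,
          hAR.trans (le_normalizer_nilPart_fittingOf _ R)⟩
      exact hle.trans (hx.captures Q hQ).1
    · exact fun y hy => hx.centralizer_le (mem_centralizer_singleton_iff.2
        (CfsgLib.Solvable.commute_nilPart hFnil hrq hy hxq))
  set N := A ⊔ fittingOf R with hN
  have hNR : N ≤ R := sup_le hAR hFi
  have hNM : N ≤ M := sup_le hAM hFM
  have hRN : R ≤ normalizer (N : Set G) := fun r hr => CfsgLib.Solvable.mem_normalizer_of_conj_mem fun n hn => by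
    rw [show r * n * r⁻¹ = ⁅r, n⁆ * n by rw [commutatorElement_def]; group]
    exact mul_mem (mem_sup_right (hRF (commutator_mem_commutator hr (hNR hn)))) hn
  have : (N.subgroupOf R).Normal := (normal_subgroupOf_iff_le_normalizer hNR).2 hRN
  obtain ⟨P₀, hP₀⟩ := (show IsPGroup p ((A.subgroupOf R).subgroupOf (N.subgroupOf R)) from
    (hAp.comap_subtype (K := R)).comap_subtype (K := N.subgroupOf R)).exists_le_sylow
  set V := ((P₀ : Subgroup (N.subgroupOf R)).map (N.subgroupOf R).subtype).map R.subtype with hV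
  have hVp : IsPGroup p V := (P₀.2.map _).map _
  have hAV : A ≤ V := fun a ha =>
    ⟨⟨a, hAR ha⟩, ⟨⟨⟨a, hAR ha⟩, mem_sup_left ha⟩, hP₀ (show (⟨a, hAR ha⟩ : R).1 ∈ A from ha), rfl⟩, rfl⟩
  obtain ⟨Q, hQ, -⟩ := CfsgLib.PStab.exists_maxInvSubgroup_ge (A := V) (q := orderOf x) (R := ⊥)
    ⟨le_top, fun r hr hd => absurd (Subgroup.card_bot (G := G) ▸ hd) hr.not_dvd_one,
      le_top.trans (normalizer_eq_top_iff.2 inferInstance).ge⟩
  obtain ⟨hQA, O, hO, -, -, hNV⟩ := h.normalizer_le hVp hAV hx.prime hx.ne hQ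
  have hNVM : normalizer (V : Set G) ≤ M :=
    hNV.le.trans (sup_le (hO.trans hx.coreA_le) (inf_le_right.trans (hx.captures Q hQA).2))
  refine hne ((hR.le_iff.1 ?_).resolve_left hM.1).symm
  have hfr := Sylow.normalizer_sup_eq_top P₀
  calc R = (⊤ : Subgroup R).map R.subtype := by rw [← MonoidHom.range_eq_map, range_subtype]
    _ ≤ M := by
      rw [← hfr, Subgroup.map_sup]
      refine sup_le ((le_normalizer_map R.subtype).trans hNVM) ?_
      rw [map_subgroupOf_eq_of_le hNR]
      exact hNM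

/-- The data of a second maximal subgroup over `A` and `x`. -/
theorem exists_data {R : Subgroup G} (hR : IsCoatom R) (hAR : A ≤ R) (hxR : x ∈ R) (hne : R ≠ M) :
    ∃ (D : Subgroup G) (s : ℕ) (_ : Fact s.Prime) (b : G), DData A R D s ∧
      b ∈ B ∧ b ≠ 1 ∧ b ∈ centralizer ({x} : Set G) ∧ Good R b ∧
      ∀ g ∈ B, g ∉ centralizer ({x} : Set G) → (∃ y ∈ D, y ≠ 1 ∧ y * b = b * y ∧ y * g = g * y) ∧
        ∀ X : Subgroup G, x ∈ X → D ⊓ centralizer ({g} : Set G) ≤ X →
          ∃ E : Subgroup G, E ≤ X ⊓ R ∧ IsElementaryAbelian s E ∧ s ^ 3 ≤ Nat.card E := by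
  have hG := h.minSimple
  have : Fact (orderOf x).Prime := ⟨hx.prime⟩
  obtain ⟨s, hsp, hF⟩ := h.exists_large hB hM hx hAM hR hAR hxR hne
  have : Fact s.Prime := ⟨hsp⟩
  have hs := h.ne_of_large hR hF
  obtain ⟨E₀, hE₀F, hE₀, hE₀c⟩ := h.exists_cube_fitting hR hF
  have hFR : nilPart s (fittingOf R) ≤ R := nilPart_le.trans (fittingOf_le R)
  have hsq : s ≠ orderOf x := by
    intro e
    obtain ⟨Q, hQ, hle⟩ := CfsgLib.PStab.exists_maxInvSubgroup_ge (A := A) (q := s)
      (R := nilPart s (fittingOf R))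
      ⟨le_top, CfsgLib.PStab.isPGroup_iff_primes.1 isPGroup_nilPart,
        hAR.trans (le_normalizer_nilPart_fittingOf _ R)⟩
    have hcap := hx.captures Q (by rw [← e]; exact hQ)
    exact hne (h.eq_of_cube_le hR hF hE₀ hE₀c hR hM (hE₀F.trans hFR) ((hE₀F.trans hle).trans hcap.1))
  set N := nilPart s (fittingOf R) with hN
  have hRN : R ≤ normalizer (N : Set G) := le_normalizer_nilPart_fittingOf s R
  have hxN : x ∉ centralizer (N : Set G) := fun hxc => hne (h.eq_of_cube_le hR hF hE₀ hE₀c hR hM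
    (hE₀F.trans hFR) fun e he => hx.centralizer_le
      (mem_centralizer_singleton_iff.2 (mem_centralizer_iff.1 hxc e (hE₀F he))))
  have hodd : Odd (Nat.card G) := hG.1
  have hs2 : s ≠ 2 := ne_two_of_dvd hG (by
    obtain ⟨i, hi⟩ := CfsgLib.PGroup.elemAb_card hE₀
    refine (dvd_pow_self s (fun h0 : i = 0 => ?_)).trans (hi ▸ card_subgroup_dvd_card E₀)
    rw [hi, h0, pow_zero] at hE₀c
    exact (Nat.one_lt_pow three_ne_zero hsp.one_lt).not_ge hE₀c)
  obtain ⟨D₀, hD₀c, hD₀e, hD₀2, hdet⟩ :=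
    CfsgLib.Techniques.SmallCritical.exists_detecting (isPGroup_nilPart (p := s) (A := fittingOf R))
  set D := D₀.map N.subtype with hD
  have hDN : D ≤ N := map_subtype_le _
  have hRD : R ≤ normalizer (D : Set G) := fun g hg => CfsgLib.Solvable.mem_normalizer_of_conj_mem (by
    rintro _ ⟨y, hy, rfl⟩
    exact ⟨_, characteristic_iff_map_le.1 hD₀c (N.normalizerMonoidHom ⟨g, hRN hg⟩) ⟨y, hy, rfl⟩, rfl⟩)
  have hDp : IsPGroup s D := (isPGroup_nilPart (p := s) (A := fittingOf R)).to_le hDN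
  have hxD : x ∉ centralizer (D : Set G) := by
    intro hxc
    refine hxN (mem_centralizer_iff.2 fun y hy => ?_)
    have h1 : N.normalizerMonoidHom ⟨x, hRN hxR⟩ = 1 := by
      refine hdet _ ?_ fun d hd => Subtype.ext ?_
      · refine Nat.Coprime.coprime_dvd_left
          ((orderOf_map_dvd _ _).trans (dvd_of_eq (Subgroup.orderOf_mk x (hRN hxR)))) ?_
        exact (Nat.coprime_primes hx.prime hsp).2 (Ne.symm hsq)
      · show x * (d : G) * x⁻¹ = d
        rw [← mem_centralizer_iff.1 hxc (d : G) (mem_map_of_mem _ hd), mul_inv_cancel_right]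
    exact (mul_inv_eq_iff_eq_mul.1 (congrArg Subtype.val (DFunLike.congr_fun h1 ⟨y, hy⟩))).symm
  -- a point of the plane
  set Pl := B ⊓ centralizer ({x} : Set G) with hPl
  have hPle : IsElementaryAbelian p Pl := elemAb_mono hB.elem inf_le_left
  have hBR : B ≤ R := hB.le.trans hAR
  have hcop : (Nat.card Pl).Coprime (Nat.card D) := by
    obtain ⟨i, hi⟩ := IsPGroup.iff_card.1 hDp
    rw [hx.card_plane, hi]
    exact ((Nat.coprime_primes hp.out hsp).2 (Ne.symm hs)).pow 2 i
  obtain ⟨b, hb, hb1, hbx⟩ : ∃ b ∈ Pl, b ≠ 1 ∧ x ∉ centralizer ((D ⊓ centralizer ({b} : Set G) : Subgroup G) : Set G) := by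
    by_contra hcon
    push Not at hcon
    refine hxD ?_
    have hle : D ≤ centralizer ({x} : Set G) := by
      conv_lhs => rw [← CfsgLib.Solvable.iSup_centralizer_eq (A := Pl) (K := D)
        (fun a ha b hb => elemAb_comm hPle ha hb)
        (not_isCyclic_of_elementary hPle hx.card_plane.ge) ((inf_le_left.trans hBR).trans hRD) hcop]
      exact iSup₂_le fun a ha d hd => mem_centralizer_singleton_iff.2
        (mem_centralizer_iff.1 (hcon a ha.1 ha.2) d hd)
    exact mem_centralizer_iff.2 fun d hd => mem_centralizer_singleton_iff.1 (hle hd)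
  obtain ⟨g₀, hg₀B, hg₀x⟩ := SetLike.not_le_iff_exists.1 (hx.not_le hB)
  set Db := D ⊓ centralizer ({b} : Set G) with hDb
  have hDbp : IsPGroup s Db := hDp.to_le inf_le_left
  have hnormb : ∀ g : G, g ∈ R → g * b = b * g → g ∈ normalizer (Db : Set G) := fun g hg hgb =>
    CfsgLib.Solvable.le_normalizer_inf (zpowers_le.2 (hRD hg))
      ((zpowers_le.2 (mem_centralizer_singleton_iff.2 hgb)).trans le_normalizer) (mem_zpowers g)
  have hxb : x * b = b * x := (mem_centralizer_singleton_iff.1 hb.2).symm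
  have hgb : ∀ g ∈ B, g * b = b * g := fun g hg => elemAb_comm hB.elem hg hb.1
  have hgpair : ∀ g ∈ B, g ∉ centralizer ({x} : Set G) →
      (orderOf g).Prime ∧ orderOf g ≠ s ∧ g ∈ normalizer (zpowers x : Set G) ∧ g * x ≠ x * g := by
    intro g hg hgx
    have hg1 : g ≠ 1 := fun e => hgx (e ▸ one_mem _)
    have := CfsgLib.PGroup.elemAb_orderOf hB.elem hg hg1
    exact ⟨this ▸ hp.out, this ▸ Ne.symm hs, hx.le_normalizer hg,
      fun e => hgx (mem_centralizer_singleton_iff.2 e)⟩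
  obtain ⟨hgo, hgs, hgn, hgne⟩ := hgpair g₀ hg₀B hg₀x
  have hrk : ¬ PRankLE s 2 Db := not_pRankLE_of_pair hx.prime (Ne.symm hsq) hgo hgs hgn hgne hs2 hodd hDbp
    (hnormb x hxR hxb) (hnormb g₀ (hBR hg₀B) (hgb g₀ hg₀B)) hbx
  obtain ⟨E, hEDb, hE, hEc⟩ := exists_elementary_of_not_pRankLE hrk
  have hER : E ≤ R := (hEDb.trans inf_le_left).trans (hDN.trans hFR)
  have hgood : Good R b := by
    have hEb : E ≤ centralizer ({b} : Set G) := hEDb.trans inf_le_right
    refine ⟨?_, fun L hL hle => h.eq_of_cube_le hR hF hE hEc hL hR (hEb.trans hle) hER⟩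
    obtain ⟨L, hL, hle⟩ := exists_isCoatom_ge hG (CfsgLib.PStab.centralizer_ne_top_of_minSimple hG hb1)
    rwa [h.eq_of_cube_le hR hF hE hEc hL hR (hEb.trans hle) hER] at hle
  refine ⟨D, s, ‹_›, b, ⟨hsp, hF, hDN.trans hFR, hRD, hDp, ?_, ?_, ?_, ?_⟩, hb.1, hb1, hb.2, hgood,
    fun g hg hgx => ?_⟩
  · rintro _ ⟨d, hd, rfl⟩
    have := congrArg Subtype.val (hD₀e d hd)
    rwa [CfsgLib.Techniques.SmallCritical.smallExp, if_neg hs2] at this
  · rintro _ ⟨a, ha, rfl⟩ _ ⟨a', ha', rfl⟩ _ ⟨c, hc, rfl⟩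
    have h1 := congrArg N.subtype
      (mem_centralizer_iff.1 (hD₀2 (commutator_mem_commutator ha (mem_top a'))) c hc)
    rw [map_mul, map_mul, map_commutatorElement] at h1
    exact h1.symm
  · rw [CfsgLib.PGroup.pRankLE_subgroup_iff]
    exact fun h' => absurd (hEc.trans (h' E (hEDb.trans inf_le_left) hE))
      (not_le.2 (Nat.pow_lt_pow_right hsp.one_lt (by norm_num)))
  · exact coreA_le_centralizer.trans
      ((centralizer_le (Set.singleton_subset_iff.2 (hB.le hb.1))).trans hgood.1)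
  · obtain ⟨hgo, hgs, hgn, hgne⟩ := hgpair g hg hgx
    have hfix := fun X hxX hle => not_pRankLE_of_fixed hx.prime (Ne.symm hsq) hgo hgs hgn hgne hs2 hodd hDbp
      (hnormb x hxR hxb) (hnormb g (hBR hg) (hgb g hg)) hbx (X := X) hxX hle
    refine ⟨?_, fun X hxX hle => ?_⟩
    · obtain ⟨y, hy, hy1⟩ := (bot_or_exists_ne_one _).resolve_left (hfix ⊤ (mem_top x) le_top).1
      exact ⟨y, hy.1.1, hy1, mem_centralizer_singleton_iff.1 hy.1.2, mem_centralizer_singleton_iff.1 hy.2⟩
    · obtain ⟨E', hE'X, hE', hE'c⟩ := exists_elementary_of_not_pRankLE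
        (hfix X hxX ((inf_le_inf_right _ inf_le_left).trans hle)).2
      exact ⟨E', le_inf (hE'X.trans inf_le_left)
        ((hE'X.trans inf_le_right).trans (inf_le_left.trans (hDN.trans hFR))), hE', hE'c⟩

/-- A good point of `M` in `B` centralises every moved element of `M`. -/
theorem good_mem_plane {g : G} (hg : g ∈ B) (hgood : Good M g) : g ∈ centralizer ({x} : Set G) := by
  have hG := h.minSimple
  by_contra hgx
  have hPle : IsElementaryAbelian p (B ⊓ centralizer ({x} : Set G)) := elemAb_mono hB.elem inf_le_left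
  have hnc := not_isCyclic_of_elementary hPle hx.card_plane.ge
  obtain ⟨d, hd, hd1, hdM⟩ : ∃ d ∈ B ⊓ centralizer ({x} : Set G), d ≠ 1 ∧ ¬ centralizer ({d} : Set G) ≤ M := by
    by_contra hcon
    push Not at hcon
    refine h.notU (inUnique_mono hG (unique_of_invariant_le hG hM (inf_le_left.trans (hB.le.trans hAM))
      (isPGroup_of_elementary hPle) hnc fun _ hY hBY => invariant_le_of_centralizer_le hG hPle hnc hcon hY hBY)
      (inf_le_left.trans hB.le) (h.ne_top_of_pGroup h.isPGroup))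
  obtain ⟨R, hR, hle⟩ := exists_isCoatom_ge hG (CfsgLib.PStab.centralizer_ne_top_of_minSimple hG hd1)
  have hne : R ≠ M := fun e => hdM (e ▸ hle)
  have hAR : A ≤ R := fun a ha => hle (mem_centralizer_singleton_iff.2 (h.comm a ha d (hB.le hd.1)))
  have hxR : x ∈ R := hle (mem_centralizer_singleton_iff.2 (mem_centralizer_singleton_iff.1 hd.2).symm)
  obtain ⟨D, s, _, b, hD, -, -, -, -, hall⟩ := h.exists_data hB hM hx hAM hR hAR hxR hne
  obtain ⟨E, hE, hEe, hEc⟩ := (hall g hg hgx).2 M hx.mem (inf_le_right.trans hgood.1)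
  exact hne (h.eq_of_cube_le hR hD.large hEe hEc hR hM (hE.trans inf_le_right) (hE.trans inf_le_left))

omit hx in
/-- The good points of a large maximal subgroup in `B` form one cyclic group. -/
theorem exists_good {q : ℕ} [Fact q.Prime] (hF : ¬ PRankLE q 2 (fittingOf M)) :
    ∃ g ∈ B, g ≠ 1 ∧ orderOf g = p ∧ Good M g ∧ (∀ g' ∈ B, Good M g' → g' ∈ zpowers g) ∧
      ∃ x₁ x₂ : G, Eig p A B M x₁ ∧ Eig p A B M x₂ ∧
        B ⊓ centralizer ({x₁} : Set G) ≠ B ⊓ centralizer ({x₂} : Set G) := by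
  obtain ⟨x₁, x₂, g, hgB, hg1, hgood, h₁, h₂, heq⟩ := h.exists_eig_pair hB hM hAM hF
  refine ⟨g, hgB, hg1, CfsgLib.PGroup.elemAb_orderOf hB.elem hgB hg1, hgood, fun g' hg' hgood' => ?_,
    x₁, x₂, h₁, h₂, fun e => ?_⟩
  · rw [← heq]
    exact ⟨⟨hg', h.good_mem_plane hB hM h₁ hAM hg' hgood'⟩, ⟨hg', h.good_mem_plane hB hM h₂ hAM hg' hgood'⟩⟩
  · rw [e, inf_idem] at heq
    have := h₂.card_plane
    rw [heq, Nat.card_zpowers, CfsgLib.PGroup.elemAb_orderOf hB.elem hgB hg1] at this
    exact absurd this (lt_self_pow₀ hp.out.one_lt one_lt_two).ne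

end ScnHyp

end CfsgLib.OddLocal.ScnThree
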