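import Cfsg.Agent.Lib.OddLocal.ScnThree.Detecting
import Cfsg.Agent.Lib.PStab.ControlLocal
import Cfsg.Agent.Lib.PStab.Complement
import Cfsg.Agent.Lib.Techniques.Functor.SylowNorm

/-!
A member of `SCN_3(p)` lies in a single maximal subgroup.
-/

set_option autoImplicit false
set_option linter.unusedSectionVars false

namespace CfsgLib.OddLocal.ScnThree

open Cfsg Subgroup
open scoped commutatorElement
open CfsgLib.Solvable (nilPart nilPart_le le_nilPart isPGroup_nilPart)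
open CfsgLib.PGroup (elemAb_zpowers elemAb_sup elemAb_comm elemAb_mono)
open CfsgLib.PStab (zjGen)

variable {G : Type*} [Group G] [Finite G] {p : ℕ} [hp : Fact p.Prime]

/-- A normal `p`-group has normal subgroups of all smaller orders. -/
theorem exists_normal_le_card {Q : Type*} [Group Q] [Finite Q] (hQ : IsPGroup p Q) {N : Subgroup Q} [hNn : N.Normal] :
    ∀ k : ℕ, p ^ k ≤ Nat.card N → ∃ K : Subgroup Q, K ≤ N ∧ K.Normal ∧ Nat.card K = p ^ k
  | 0, _ => ⟨⊥, bot_le, inferInstance, by rw [card_bot, pow_zero]⟩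
  | k + 1, hk => by
    obtain ⟨U, hUN, hUn, hUc⟩ := exists_normal_le_card hQ k
      ((Nat.pow_le_pow_right hp.out.pos k.le_succ).trans hk)
    set f := QuotientGroup.mk' U with hf
    have hne : N.map f ≠ ⊥ := by
      rw [Ne, Subgroup.map_eq_bot_iff, QuotientGroup.ker_mk']
      intro hle
      have := hk.trans ((card_le_of_le hle).trans_eq hUc)
      exact absurd this (not_le.2 (Nat.pow_lt_pow_right hp.out.one_lt k.lt_succ_self))
    have : (N.map f).Normal := hNn.map f (QuotientGroup.mk'_surjective U)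
    obtain ⟨Z, hZN, -, hZn, hZ⟩ := CfsgLib.PGroup.exists_card_eq_le_center (hQ.to_quotient U) (N.map f) hne
    refine ⟨Z.comap f, (comap_mono hZN).trans ?_, hZn.comap f, ?_⟩
    · rw [comap_map_eq, QuotientGroup.ker_mk', sup_eq_left.2 hUN]
    · rw [CfsgLib.Solvable.card_comap_mk', hUc, hZ, ← pow_succ]

/-- A `p`-subgroup in the derived group of `N = OH`, `O` a normal `p'`-subgroup, is in the derived group of `H`. -/
theorem le_commutator_of_factor {N O H S : Subgroup G} (hON : O ≤ N) (hn : N ≤ normalizer (O : Set G))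
    (hHN : H ≤ N) (hfac : N ≤ O ⊔ H) (hO : ∀ r : ℕ, r.Prime → r ∣ Nat.card O → r ≠ p) (hS : IsPGroup p S)
    (hSH : S ≤ H) (hSN : S ≤ ⁅N, N⁆) : S ≤ ⁅H, H⁆ := by
  intro v hv
  rw [← map_subtype_commutator]
  have : (O.subgroupOf N).Normal := (normal_subgroupOf_iff_le_normalizer hON).2 hn
  let f := (QuotientGroup.mk' (O.subgroupOf N)).comp (inclusion hHN)
  have hsurj : Function.Surjective f := by
    intro z
    induction z using QuotientGroup.induction_on with
    | _ z =>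
      obtain ⟨o, ho, u, hu, he⟩ := CfsgLib.Solvable.exists_mul_of_mem_sup (hHN.trans hn) (hfac z.2)
      refine ⟨⟨u, hu⟩, (QuotientGroup.eq).2 (mem_subgroupOf.2 ?_)⟩
      show u⁻¹ * (z : G) ∈ O
      rw [he]
      simpa [mul_assoc] using (mem_normalizer_iff''.1 (hn (hHN hu)) o).1 ho
  have hvN : (⟨v, hHN (hSH hv)⟩ : N) ∈ commutator N := by
    have h1 := hSN hv
    rw [← map_subtype_commutator] at h1
    obtain ⟨w, hw, hwv⟩ := h1
    rwa [show w = (⟨v, hHN (hSH hv)⟩ : N) from Subtype.ext hwv] at hw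
  have h2 : f ⟨v, hSH hv⟩ ∈ (commutator H).map f := by
    rw [_root_.commutator_def, map_commutator, map_top_of_surjective f hsurj,
      ← map_top_of_surjective (QuotientGroup.mk' (O.subgroupOf N)) (QuotientGroup.mk'_surjective _),
      ← map_commutator, ← _root_.commutator_def]
    exact mem_map_of_mem _ hvN
  obtain ⟨u, hu, hfu⟩ := h2
  have ho : ((u⁻¹ * ⟨v, hSH hv⟩ : H) : G) ∈ O := by
    have := QuotientGroup.eq.1 hfu
    rwa [mem_subgroupOf] at this
  refine ⟨⟨v, hSH hv⟩, ?_, rfl⟩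
  set a : H := ⟨v, hSH hv⟩
  set g := QuotientGroup.mk' (commutator H) with hg
  rw [SetLike.mem_coe, ← QuotientGroup.ker_mk' (commutator H), MonoidHom.mem_ker, ← orderOf_eq_one_iff]
  have hgu : g (u⁻¹ * a) = g a := by
    rw [map_mul, map_inv, show g u = 1 from (QuotientGroup.eq_one_iff u).2 hu, inv_one, one_mul]
  refine Nat.eq_one_of_dvd_coprimes (a := orderOf v) (b := orderOf ((u⁻¹ * a : H) : G)) ?_ ?_ ?_
  · refine Nat.coprime_of_dvd fun r hr h1 h2 => hO r hr (h2.trans (Subgroup.orderOf_dvd_natCard O ho)) ?_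
    obtain ⟨i, hi⟩ := IsPGroup.iff_card.1 hS
    exact (Nat.prime_dvd_prime_iff_eq hr hp.out).1
      (hr.dvd_of_dvd_pow ((h1.trans (Subgroup.orderOf_dvd_natCard S hv)).trans (dvd_of_eq hi)))
  · exact (orderOf_map_dvd g a).trans (dvd_of_eq (Subgroup.orderOf_mk v (hSH hv)))
  · rw [← hgu, Subgroup.orderOf_coe]
    exact orderOf_map_dvd g _

omit hp in
/-- The derived group of the stabiliser of a cyclic group centralises it. -/
theorem commutator_le_centralizer {H : Subgroup G} {w : G} (hH : H ≤ normalizer (zpowers w : Set G)) :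
    ⁅H, H⁆ ≤ centralizer ({w} : Set G) := by
  refine commutator_le.2 fun a ha b hb => mem_centralizer_singleton_iff.2 (mul_inv_eq_iff_eq_mul.1 ?_)
  have hex : ∀ c ∈ H, ∃ i : ℤ, w ^ i = c * w * c⁻¹ := fun c hc =>
    mem_zpowers_iff.1 ((mem_normalizer_iff.1 (hH hc) w).1 (mem_zpowers w))
  obtain ⟨i, hi⟩ := hex a ha
  obtain ⟨j, hj⟩ := hex b hb
  obtain ⟨k, hk⟩ := hex a⁻¹ (inv_mem ha)
  obtain ⟨l, hl⟩ := hex b⁻¹ (inv_mem hb)
  have hconj : ∀ (c : G) (t : ℤ), c * w ^ t * c⁻¹ = (c * w * c⁻¹) ^ t := fun c t => (conj_zpow).symm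
  have hik : w ^ (i * k) = w := by
    rw [zpow_mul, hi, ← hconj, hk]; group
  have hjl : w ^ (j * l) = w := by
    rw [zpow_mul, hj, ← hconj, hl]; group
  calc ⁅a, b⁆ * w * ⁅a, b⁆⁻¹ = a * (b * (a⁻¹ * (b⁻¹ * w * b⁻¹⁻¹) * a⁻¹⁻¹) * b⁻¹) * a⁻¹ := by
        rw [commutatorElement_def]; group
    _ = w ^ (i * j * k * l) := by
      rw [← hl, hconj, ← hk, ← zpow_mul, hconj, ← hj, ← zpow_mul, hconj, ← hi, ← zpow_mul]
      congr 1; ring
    _ = (w ^ (i * k)) ^ (j * l) := by rw [← zpow_mul]; congr 1; ring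
    _ = w := by rw [hik, hjl]

omit [Finite G] hp in
theorem good_conj {M : Subgroup G} {c n : G} (h : Good M c) (hn : n ∈ M) : Good M (n * c * n⁻¹) := by
  have key : ∀ (L : Subgroup G), n ∈ L → ((centralizer ({n * c * n⁻¹} : Set G) ≤ L) ↔ centralizer ({c} : Set G) ≤ L) := by
    intro L hnL
    refine ⟨fun hle y hy => ?_, fun hle y hy => ?_⟩
    · have h1 : n * y * n⁻¹ ∈ L := hle (mem_centralizer_singleton_iff.2 (by
        have := mem_centralizer_singleton_iff.1 hy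
        calc n * y * n⁻¹ * (n * c * n⁻¹) = n * (y * c) * n⁻¹ := by group
          _ = _ := by rw [this]; group))
      simpa [mul_assoc] using mul_mem (mul_mem (inv_mem hnL) h1) hnL
    · have h1 : n⁻¹ * y * n ∈ L := hle (mem_centralizer_singleton_iff.2 (by
        have := mem_centralizer_singleton_iff.1 hy
        calc n⁻¹ * y * n * c = n⁻¹ * (y * (n * c * n⁻¹)) * n := by group
          _ = _ := by rw [this]; group))
      simpa [mul_assoc] using mul_mem (mul_mem hnL h1) (inv_mem hnL)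
  refine ⟨(key M hn).2 h.1, fun L hL hle => ?_⟩
  have hle' : centralizer ({c} : Set G) ≤ L.map (MulAut.conj n⁻¹).toMonoidHom := fun y hy =>
    ⟨n * y * n⁻¹, hle (mem_centralizer_singleton_iff.2 (by
      have := mem_centralizer_singleton_iff.1 hy
      calc n * y * n⁻¹ * (n * c * n⁻¹) = n * (y * c) * n⁻¹ := by group
        _ = _ := by rw [this]; group)), by simp [mul_assoc]⟩
  have he := h.2 _ (((MulAut.conj n⁻¹).mapSubgroup.isCoatom_iff L).2 hL) hle'
  have hMn : M.map (MulAut.conj n).toMonoidHom = M :=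
    mem_normalizer_iff_map_conj_eq.1 (le_normalizer hn)
  rw [← hMn, ← he]
  show L = (L.map (MulAut.conj n⁻¹).toMonoidHom).map (MulAut.conj n).toMonoidHom
  rw [CfsgLib.PStab.map_conj_map_conj, mul_inv_cancel, CfsgLib.PStab.map_conj_one']

omit [Finite G] hp in
theorem centralizer_singleton_eq {g g' : G} (h : zpowers g = zpowers g') :
    centralizer ({g} : Set G) = centralizer ({g'} : Set G) := by
  have key : ∀ g : G, centralizer ({g} : Set G) = centralizer (zpowers g : Set G) := fun g =>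
    le_antisymm (le_centralizer_zpowers le_rfl) (centralizer_le (Set.singleton_subset_iff.2 (mem_zpowers g)))
  rw [key g, key g', h]

theorem zpowers_eq_of_mem {g g' : G} (hg : orderOf g = p) (hg' : g' ∈ zpowers g) (h1 : g' ≠ 1) :
    zpowers g' = zpowers g :=
  le_antisymm (zpowers_le.2 hg') (zpowers_le.2 (mem_zpowers_of_prime (hg ▸ hp.out) hg' h1))

/-- Two good points of different maximal subgroups generate different cyclic groups. -/
theorem not_mem_of_good {M R : Subgroup G} {g g' : G} (hM : IsCoatom R) (hne : R ≠ M) (hg : Good M g)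
    (hg' : Good R g') (ho : orderOf g = p) (h1 : g' ≠ 1) : g' ∉ zpowers g := fun hmem =>
  hne (hg.2 R hM (by rw [← centralizer_singleton_eq (zpowers_eq_of_mem ho hmem h1)]; exact hg'.1))

namespace ScnHyp

variable {P : Sylow p G} {A : Subgroup G} (h : ScnHyp P A)
include h

theorem exists_normal_cube_in :
    ∃ B : Subgroup G, IsCube p A B ∧ (P : Subgroup G) ≤ normalizer (B : Set G) := by
  have hAP : A ≤ (P : Subgroup G) := h.scn.1
  have : (A.subgroupOf (P : Subgroup G)).Normal := (normal_subgroupOf_iff_le_normalizer hAP).2 h.scn.2.1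
  set A' := A.subgroupOf (P : Subgroup G) with hA'
  have hc : ∀ a ∈ A', ∀ b ∈ A', a * b = b * a := fun a ha b hb => Subtype.ext (h.comm _ ha _ hb)
  have : (omegaOne p A').Normal := CfsgLib.PGroup.omegaOne_normal p A'
  obtain ⟨B₀, hB₀⟩ := h.exists_cube
  have hle : B₀.subgroupOf (P : Subgroup G) ≤ omegaOne p A' := fun b hb =>
    CfsgLib.PGroup.mem_omegaOne (hB₀.le hb) (Subtype.ext (hB₀.elem.2 (b : G) hb))
  obtain ⟨K, hK, hKn, hKc⟩ := exists_normal_le_card P.2 (N := omegaOne p A') 3 (by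
    rw [← hB₀.card, ← Nat.card_congr (subgroupOfEquivOfLe (hB₀.le.trans hAP)).toEquiv]
    exact card_le_of_le hle)
  refine ⟨K.map (P : Subgroup G).subtype, ⟨?_, ?_, ?_⟩, ?_⟩
  · exact (map_mono (hK.trans (CfsgLib.PGroup.omegaOne_le p A'))).trans (map_subgroupOf_eq_of_le hAP).le
  · exact CfsgLib.PGroup.elemAb_map (elemAb_mono (CfsgLib.PGroup.elemAb_omegaOne_of_comm hc) hK) _
  · rw [card_map_of_injective (P : Subgroup G).subtype_injective, hKc]
  · refine (normal_subgroupOf_iff_le_normalizer (map_subtype_le _)).1 ?_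
    rw [show (K.map (P : Subgroup G).subtype).subgroupOf (P : Subgroup G) = K from
      comap_map_eq_self_of_injective (P : Subgroup G).subtype_injective _]
    exact hKn

/-- Two different large maximal subgroups over the Sylow subgroup, sharing a local subgroup with `P` in its derived
group. -/
theorem exists_two_special : ∃ (M R V N₀ : Subgroup G), IsCoatom M ∧ IsCoatom R ∧ M ≠ R ∧ IsPGroup p V ∧
    A ≤ V ∧ V ≤ (P : Subgroup G) ∧ N₀ ≤ normalizer (V : Set G) ∧ (P : Subgroup G) ≤ ⁅N₀, N₀⁆ ∧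
    N₀ ≤ M ∧ N₀ ≤ R ∧ (P : Subgroup G) ≤ M ∧ (P : Subgroup G) ≤ R ∧
    (∃ q : ℕ, q.Prime ∧ ¬ PRankLE q 2 (fittingOf M)) ∧ ∃ q : ℕ, q.Prime ∧ ¬ PRankLE q 2 (fittingOf R) := by
  have hG := h.minSimple
  set S := (P : Subgroup G) with hS
  have hAS : A ≤ S := h.scn.1
  have hS1 : S ≠ ⊥ := fun e => h.ne_bot (le_bot_iff.1 (e ▸ hAS))
  set W := zjGen 0 S with hW
  have hW1 : W ≠ ⊥ := CfsgLib.PStab.zjGen_ne_bot (Or.inl rfl) P.2 hS1
  obtain ⟨Lz, hLz, hNW⟩ := exists_isCoatom_ge hG (CfsgLib.PStab.normalizer_ne_top_of_minSimple hG hW1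
    fun e => h.ne_top_of_pGroup P.2 (top_le_iff.1 (e ▸ CfsgLib.PStab.zjGen_le 0 S)))
  have hSLz : S ≤ Lz :=
    (le_normalizer.trans (CfsgLib.PStab.normalizer_le_normalizer_zjGen 0 S)).trans hNW
  have hfocal : S ≤ ⁅Lz, Lz⁆ := by
    have htop : ⁅(⊤ : Subgroup G), (⊤ : Subgroup G)⁆ = ⊤ := by
      rcases hG.2.1.eq_bot_or_eq_top_of_normal ⁅(⊤ : Subgroup G), (⊤ : Subgroup G)⁆ inferInstance with h' | h'
      · refine absurd ⟨⟨fun a b => ?_⟩⟩ hG.2.2.1
        exact commutatorElement_eq_one_iff_mul_comm.1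
          (mem_bot.1 (h' ▸ commutator_mem_commutator (mem_top a) (mem_top b)))
      · exact h'
    refine le_trans (le_inf le_rfl (le_top.trans htop.ge)) ?_
    refine CfsgLib.Techniques.Functor.inf_commutator_le P.2 le_top
      (CfsgLib.Techniques.Functor.relIndex_sylow_not_dvd P le_top) fun a ha m _ hma => ?_
    obtain ⟨n, hn, hag⟩ := CfsgLib.PStab.control_of_local_stable P h.ne_two
      (fun X _ _ => CfsgLib.PStab.stableAll_of_odd (hG.1.of_dvd_nat (card_subgroup_dvd_card _)))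
      (zpowers a) m (zpowers_le.2 ha) (by
        rintro _ ⟨y, hy, rfl⟩
        obtain ⟨i, rfl⟩ := mem_zpowers_iff.1 hy
        rw [map_zpow]
        exact zpow_mem hma i)
    rw [← hag a (mem_zpowers a), show a⁻¹ * (n * a * n⁻¹) = ⁅a⁻¹, n⁆ by
      rw [commutatorElement_def]; group]
    exact commutator_mem_commutator (inv_mem (hSLz ha)) (hNW hn)
  -- the subgroup `V`
  have hLs : Group.IsSolvable Lz := isSolvable_of_isCoatom hG hLz
  obtain ⟨PW, hPW⟩ := exists_sylow_of_maximal hSLz P.2 fun U _ hU hle => P.is_maximal' hU hle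
  set V := ((PW : Subgroup Lz) ⊓ pPrimePCore p Lz).map Lz.subtype with hV
  have hVS : V ≤ S := (map_mono inf_le_left).trans hPW.le
  have hSV : S ≤ normalizer (V : Set G) := by
    refine hPW.ge.trans ((map_mono ?_).trans (le_normalizer_map _))
    refine CfsgLib.Solvable.le_normalizer_inf le_normalizer (le_top.trans (ge_of_eq ?_))
    have : (pPrimePCore p Lz).Normal :=
      (inferInstance : (pCore p (Lz ⧸ pPrimeCore p Lz)).Normal).comap _
    exact normalizer_eq_top _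
  have hAV : A ≤ V := by
    have hle : A.subgroupOf Lz ≤ (PW : Subgroup Lz) := fun x hx => by
      obtain ⟨y, hy, hyx⟩ := hPW.ge (hAS hx)
      rwa [Lz.subtype_injective hyx] at hy
    have hc : IsMulCommutative (A.subgroupOf Lz) :=
      ⟨⟨fun a b => Subtype.ext (Subtype.ext (h.comm _ a.2 _ b.2))⟩⟩
    have hn : (PW : Subgroup Lz) ≤ normalizer ((A.subgroupOf Lz : Subgroup Lz) : Set Lz) := fun x hx => by
      refine mem_normalizer_iff.2 fun y => ?_
      simpa [mem_subgroupOf] using mem_normalizer_iff.1 (h.scn.2.1 (hPW.le (mem_map_of_mem _ hx))) (y : G)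
    have h' := Cfsg.Agent.S1457.result (hG.1.of_dvd_nat (card_subgroup_dvd_card Lz)) p PW (A.subgroupOf Lz) hle hc hn
    rw [← map_subgroupOf_eq_of_le (hAS.trans hSLz)]
    exact map_mono (le_inf hle h')
  set N₀ := Lz ⊓ normalizer (V : Set G) with hN₀
  have hSN₀ : S ≤ ⁅N₀, N₀⁆ := by
    refine le_commutator_of_factor (p := p) (O := piCoreOf (primesNotDvd p) Lz) (map_subtype_le _)
      (le_normalizer_piCoreOf _ Lz) inf_le_left (fun z hz => ?_)
      (fun r hr hd => (mem_primesNotDvd_prime.1 (CfsgLib.PStab.prime_mem_of_dvd_piCoreOf r hr hd)).2)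
      P.2 (le_inf hSLz hSV) hfocal
    have h' : (⟨z, hz⟩ : Lz) ∈ pPrimeCore p Lz ⊔
        normalizer (((PW : Subgroup Lz) ⊓ pPrimePCore p Lz : Subgroup Lz) : Set Lz) := by
      rw [sup_normalizer_inf_pPrimePCore_eq_top PW]; exact mem_top _
    obtain ⟨o, ho, x, hx, hox⟩ := CfsgLib.Solvable.exists_mul_of_mem_sup
      (le_top.trans (normalizer_eq_top (pPrimeCore p Lz)).ge) h'
    rw [show z = (o : G) * x from congrArg Subtype.val hox]
    refine mul_mem_sup ?_ ⟨x.2, le_normalizer_map _ (mem_map_of_mem _ hx)⟩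
    rw [piCoreOf_prime_eq]
    exact mem_map_of_mem _ ho
  have hVp : IsPGroup p V := P.2.to_le hVS
  have hKp : ∀ O : Subgroup G, O ≤ coreA A → ∀ r : ℕ, r.Prime → r ∣ Nat.card O → r ≠ p := by
    intro O hO r hr hd
    have h1 := CfsgLib.PStab.prime_mem_of_dvd_piCoreOf r hr (hd.trans (card_dvd_of_le hO))
    rw [h.primes_eq] at h1
    exact (mem_primesNotDvd_prime.1 h1).2
  -- maximal subgroups over the normalisers of invariant subgroups
  have hstep : ∀ {q : ℕ}, q.Prime → q ≠ p → ∀ Q ∈ maxInvSubgroups ⊤ S {q}, Q ≠ ⊥ →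
      ∀ L : Subgroup G, IsCoatom L → normalizer (Q : Set G) ≤ L →
      S ≤ L ∧ N₀ ≤ L ∧ coreA A ≤ L ∧ ∃ s : ℕ, s.Prime ∧ ¬ PRankLE s 2 (fittingOf L) := by
    intro q hq hqp Q hQ hQ1 L hL hNL
    obtain ⟨hQA, -⟩ := h.normalizer_le P.2 hAS hq hqp hQ
    have hQV : Q ∈ maxInvSubgroups ⊤ V {q} := ⟨⟨le_top, hQ.1.2.1, hVS.trans hQ.1.2.2⟩,
      fun R' hR' hle => hQA.2 R' ⟨le_top, hR'.2.1, hAV.trans hR'.2.2⟩ hle⟩
    obtain ⟨-, O, hO, -, hOn, hNV⟩ := h.normalizer_le hVp hAV hq hqp hQV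
    set Hq := normalizer (V : Set G) ⊓ normalizer (Q : Set G) with hHq
    have hSd : S ≤ ⁅Hq, Hq⁆ := le_commutator_of_factor (p := p) (hNV.ge.trans' le_sup_left) hOn inf_le_left
      hNV.le (hKp O hO) P.2 (le_inf hSV hQ.1.2.2) (hSN₀.trans (commutator_mono inf_le_right inf_le_right))
    have hHL : Hq ≤ L := inf_le_right.trans hNL
    have hSL : S ≤ L := hQ.1.2.2.trans hNL
    have hlarge : ∃ s : ℕ, s.Prime ∧ ¬ PRankLE s 2 (fittingOf L) := by
      by_contra hcon
      push Not at hcon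
      have : Group.IsSolvable L := isSolvable_of_isCoatom hG hL
      have hsm : RankLE 2 (fittingSubgroup L) := fun s hs => by
        have : Fact s.Prime := ⟨hs⟩
        exact CfsgLib.PGroup.pRankLE_of_injective (hcon s hs)
          (equivMapOfInjective (fittingSubgroup L) L.subtype L.subtype_injective).toMonoidHom
          (equivMapOfInjective _ _ L.subtype_injective).injective
      have hnil := (Cfsg.Agent.S1451.result (hG.1.of_dvd_nat (card_subgroup_dvd_card L)) (Or.inr hsm)).1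
      have hLF : ⁅L, L⁆ ≤ fittingOf L := by
        rw [← map_subtype_commutator]
        exact map_mono (CfsgLib.Cores.le_fittingSubgroup hnil)
      have hF2 := hcon p hp.out
      rw [CfsgLib.PGroup.pRankLE_subgroup_iff] at hF2
      obtain ⟨B, hB⟩ := h.exists_cube
      have := hB.card ▸ hF2 B (hB.le.trans (hAS.trans (hSd.trans ((commutator_mono hHL hHL).trans hLF)))) hB.elem
      exact absurd this (not_le.2 (Nat.pow_lt_pow_right hp.out.one_lt (by norm_num)))
    obtain ⟨s, hs, hsF⟩ := hlarge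
    have : Fact s.Prime := ⟨hs⟩
    obtain ⟨B, hB⟩ := h.exists_cube
    obtain ⟨g, hgB, -, -, hgood, -⟩ := h.exists_good hB hL (hAS.trans hSL) hsF
    have hKL : coreA A ≤ L :=
      (coreA_le_centralizer.trans (centralizer_le (Set.singleton_subset_iff.2 (hB.le hgB)))).trans hgood.1
    exact ⟨hSL, inf_le_right.trans (hNV.le.trans (sup_le (hO.trans hKL) hHL)), hKL, s, hs, hsF⟩
  let Special : Subgroup G → Prop := fun L =>
    IsCoatom L ∧ S ≤ L ∧ N₀ ≤ L ∧ coreA A ≤ L ∧ ∃ s : ℕ, s.Prime ∧ ¬ PRankLE s 2 (fittingOf L)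
  by_contra hcon
  obtain ⟨M, hM, hSM, huniq⟩ : ∃ M, IsCoatom M ∧ S ≤ M ∧ ∀ L, Special L → L = M := by
    by_cases he : ∃ L, Special L
    · obtain ⟨M, hM⟩ := he
      refine ⟨M, hM.1, hM.2.1, fun L hL => ?_⟩
      by_contra hne
      exact hcon ⟨M, L, V, N₀, hM.1, hL.1, Ne.symm hne, hVp, hAV, hVS, inf_le_right, hSN₀, hM.2.2.1,
        hL.2.2.1, hM.2.1, hL.2.1, hM.2.2.2.2, hL.2.2.2.2⟩
    · exact ⟨Lz, hLz, hSLz, fun L hL => absurd ⟨L, hL⟩ he⟩
  refine h.false_of_invariant_le hM (hAS.trans hSM) fun q hq hqp Q' hQ' => ?_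
  obtain ⟨Q, hQ, -⟩ := CfsgLib.PStab.exists_maxInvSubgroup_ge (A := S) (q := q) (R := ⊥)
    ⟨le_top, fun r hr hd => absurd (Subgroup.card_bot (G := G) ▸ hd) hr.not_dvd_one,
      le_top.trans (normalizer_eq_top_iff.2 inferInstance).ge⟩
  obtain ⟨k, hk, rfl⟩ := h.conj_core hq hqp Q (h.normalizer_le P.2 hAS hq hqp hQ).1 Q' hQ'
  rcases eq_or_ne Q ⊥ with rfl | hQ1
  · rw [Subgroup.map_bot]
    exact bot_le
  have : Fact q.Prime := ⟨hq⟩
  obtain ⟨L, hL, hNL⟩ := exists_isCoatom_ge hG (CfsgLib.PStab.normalizer_ne_top_of_minSimple hG hQ1 fun e =>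
    not_isPGroup_minSimple hG q ((e ▸ CfsgLib.PStab.isPGroup_iff_primes.2 hQ.1.2.1).of_equiv
      (topEquiv : (⊤ : Subgroup G) ≃* G)))
  have hLs := hstep hq hqp Q hQ hQ1 L hL hNL
  obtain rfl := huniq L ⟨hL, hLs⟩
  rintro _ ⟨x, hx, rfl⟩
  exact mul_mem (mul_mem (hLs.2.2.1 hk) (hNL (le_normalizer hx))) (inv_mem (hLs.2.2.1 hk))

theorem contradiction : False := by
  have hG := h.minSimple
  obtain ⟨M, R, V, N₀, hM, hR, hMR, hVp, hAV, hVS, hN₀V, hSN₀, hN₀M, hN₀R, hSM, hSR, ⟨q, hq, hqF⟩, r, hr, hrF⟩ :=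
    h.exists_two_special
  have : Fact q.Prime := ⟨hq⟩
  have : Fact r.Prime := ⟨hr⟩
  set S := (P : Subgroup G) with hS
  have hAS : A ≤ S := h.scn.1
  obtain ⟨B, hB, hSB⟩ := h.exists_normal_cube_in
  have hAM := hAS.trans hSM
  have hAR := hAS.trans hSR
  obtain ⟨g, hgB, hg1, hgo, hgM, hgu, x₁, x₂, hx₁, hx₂, hx12⟩ := h.exists_good hB hM hAM hqF
  obtain ⟨g', hg'B, hg'1, hg'o, hg'R, hg'u, u₁, u₂, hu₁, hu₂, hu12⟩ := h.exists_good hB hR hAR hrF
  have hng : g' ∉ zpowers g := not_mem_of_good hR (Ne.symm hMR) hgM hg'R hgo hg'1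
  -- `g` is central in `S`
  have hgC : S ≤ centralizer ({g} : Set G) := by
    have hgS : zpowers g ≤ S := zpowers_le.2 (hAS (hB.le hgB))
    have hn : S ≤ normalizer (zpowers g : Set G) := fun v hv => CfsgLib.Solvable.mem_normalizer_of_conj_mem
      fun z hz => by
        obtain ⟨i, rfl⟩ := mem_zpowers_iff.1 hz
        rw [← conj_zpow]
        exact zpow_mem (hgu _ ((mem_normalizer_iff.1 (hSB hv) g).1 hgB) (good_conj hgM (hSM hv))) i
    have : ((zpowers g).subgroupOf S).Normal := (normal_subgroupOf_iff_le_normalizer hgS).2 hn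
    have hcard : Nat.card ((zpowers g).subgroupOf S) = p := by
      rw [Nat.card_congr (subgroupOfEquivOfLe hgS).toEquiv, Nat.card_zpowers, hgo]
    have hc := CfsgLib.PGroup.le_center_of_card_eq P.2 _ hcard
    refine fun v hv => mem_centralizer_singleton_iff.2 ?_
    exact congrArg Subtype.val (mem_center_iff.1
      (hc (show (⟨g, hgS (mem_zpowers g)⟩ : S) ∈ (zpowers g).subgroupOf S from mem_zpowers g)) ⟨v, hv⟩)
  set m := zpowers g ⊔ zpowers g' with hm
  have hsq : ∀ {a b : G}, a ∈ B → b ∈ B → a ≠ 1 → b ∉ zpowers a →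
      Nat.card ↥(zpowers a ⊔ zpowers b) = p ^ 2 := by
    intro a b ha hb ha1 hab
    have hle : zpowers a ⊔ zpowers b ≤ B := sup_le (zpowers_le.2 ha) (zpowers_le.2 hb)
    refine le_antisymm (Nat.le_of_dvd (pow_pos hp.out.pos 2) ?_)
      (card_sq_le (elemAb_mono hB.elem hle) (mem_sup_left (mem_zpowers a)) ha1 (mem_sup_right (mem_zpowers b)) hab)
    have h1 := CfsgLib.Solvable.card_sup_dvd_of_le_normalizer (A := zpowers a) (X := zpowers b)
      ((zpowers_le.2 (mem_centralizer_iff.2 fun w hw => elemAb_comm hB.elem (zpowers_le.2 ha hw) hb)).trans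
        (centralizer_le_normalizer _))
    rw [Nat.card_zpowers, Nat.card_zpowers, CfsgLib.PGroup.elemAb_orderOf hB.elem ha ha1,
      CfsgLib.PGroup.elemAb_orderOf hB.elem hb (fun e => hab (e ▸ one_mem _)), ← pow_two] at h1
    exact h1
  have hmc : Nat.card m = p ^ 2 := hsq hgB hg'B hg1 hng
  have hmB : m ≤ B := sup_le (zpowers_le.2 hgB) (zpowers_le.2 hg'B)
  -- the plane of an element must equal a plane through both points
  have hplane : ∀ {L : Subgroup G} {x a b : G}, Eig p A B L x → a ∈ B ⊓ centralizer ({x} : Set G) →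
      b ∈ B ⊓ centralizer ({x} : Set G) → a ≠ 1 → b ∉ zpowers a →
      B ⊓ centralizer ({x} : Set G) = zpowers a ⊔ zpowers b := by
    intro L x a b hx ha hb ha1 hab
    exact (eq_of_le_of_card_ge (sup_le (zpowers_le.2 ha) (zpowers_le.2 hb))
      (by rw [hx.card_plane, hsq ha.1 hb.1 ha1 hab])).symm
  obtain ⟨x, hx, hxm⟩ : ∃ x, Eig p A B M x ∧ B ⊓ centralizer ({x} : Set G) ≠ m := by
    by_cases he : B ⊓ centralizer ({x₁} : Set G) = m
    · exact ⟨x₂, hx₂, fun e => hx12 (he.trans e.symm)⟩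
    · exact ⟨x₁, hx₁, he⟩
  obtain ⟨u, hu, hum⟩ : ∃ u, Eig p A B R u ∧ B ⊓ centralizer ({u} : Set G) ≠ m := by
    by_cases he : B ⊓ centralizer ({u₁} : Set G) = m
    · exact ⟨u₂, hu₂, fun e => hu12 (he.trans e.symm)⟩
    · exact ⟨u₁, hu₁, he⟩
  have hgx : g ∈ B ⊓ centralizer ({x} : Set G) := ⟨hgB, h.good_mem_plane hB hM hx hAM hgB hgM⟩
  have hg'u' : g' ∈ B ⊓ centralizer ({u} : Set G) := ⟨hg'B, h.good_mem_plane hB hR hu hAR hg'B hg'R⟩
  have hg'x : g' ∉ centralizer ({x} : Set G) := fun e => hxm (hplane hx hgx ⟨hg'B, e⟩ hg1 hng)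
  have hgu' : g ∉ centralizer ({u} : Set G) := fun e => hum (hplane hu ⟨hgB, e⟩ hg'u' hg1 hng)
  have hxu : B ⊓ centralizer ({x} : Set G) ≠ B ⊓ centralizer ({u} : Set G) := fun e => hgu' (e ▸ hgx).2
  obtain ⟨d, hd1, hd, hdo⟩ := hB.exists_inter inf_le_left inf_le_left hx.card_plane hu.card_plane hxu
  have hdI : d ∈ (B ⊓ centralizer ({x} : Set G)) ⊓ (B ⊓ centralizer ({u} : Set G)) := hd.ge (mem_zpowers d)
  have hdg : d ∉ zpowers g := fun e => hgu' ((zpowers_le.2 hdI.2.2)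
    (mem_zpowers_of_prime (hgo ▸ hp.out) e hd1))
  -- `x ∉ R` and `u ∉ M`
  have hxR : x ∉ R := by
    intro hxR
    obtain ⟨D, s, _, b, -, hbB, hb1, hbx, hbR, -⟩ := h.exists_data hB hM hx hAM hR hAR hxR (Ne.symm hMR)
    exact hg'x ((zpowers_le.2 hbx) (mem_zpowers_of_prime (hg'o ▸ hp.out) (hg'u b hbB hbR) hb1))
  have huM : u ∉ M := by
    intro huM
    obtain ⟨D, s, _, b, -, hbB, hb1, hbu, hbM, -⟩ := h.exists_data hB hR hu hAR hM hAM huM hMR
    exact hgu' ((zpowers_le.2 hbu) (mem_zpowers_of_prime (hgo ▸ hp.out) (hgu b hbB hbM) hb1))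
  obtain ⟨C, hC, hle⟩ := exists_isCoatom_ge hG (CfsgLib.PStab.centralizer_ne_top_of_minSimple hG hd1)
  have hAC : A ≤ C := fun a ha => hle (mem_centralizer_singleton_iff.2 (h.comm a ha d (hB.le hdI.1.1)))
  have hxC : x ∈ C := hle (mem_centralizer_singleton_iff.2 (mem_centralizer_singleton_iff.1 hdI.1.2).symm)
  have huC : u ∈ C := hle (mem_centralizer_singleton_iff.2 (mem_centralizer_singleton_iff.1 hdI.2.2).symm)
  have hCM : C ≠ M := fun e => huM (e ▸ huC)
  have hCR : C ≠ R := fun e => hxR (e ▸ hxC)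
  obtain ⟨D, s, _, b, hD, hbB, hb1, hbx, hbC, -⟩ := h.exists_data hB hM hx hAM hC hAC hxC hCM
  obtain ⟨D', s', _, b', hD', hb'B, hb'1, hb'u, hb'C, hall'⟩ := h.exists_data hB hR hu hAR hC hAC huC hCR
  obtain ⟨gc, hgcB, -, hgco, -, hgcu, -⟩ := h.exists_good hB hC hAC (q := s) hD.large
  have hb'x : b' ∈ centralizer ({x} : Set G) := by
    refine (zpowers_le.2 hbx) ?_
    rw [zpowers_eq_of_mem hgco (hgcu b hbB hbC) hb1]
    exact hgcu b' hb'B hb'C
  have hdb' : d ∈ zpowers b' := by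
    have hmem : b' ∈ zpowers d := hd.le ⟨⟨hb'B, hb'x⟩, hb'B, hb'u⟩
    exact mem_zpowers_of_prime (hdo ▸ hp.out) hmem hb'1
  obtain ⟨y, hyD, hy1, hyb, hyg⟩ := (hall' g hgB hgu').1
  have hgy : zpowers g ⊔ zpowers d ≤ centralizer ({y} : Set G) := by
    refine sup_le (zpowers_le.2 (mem_centralizer_singleton_iff.2 hyg.symm)) (zpowers_le.2 ?_)
    exact (zpowers_le.2 (mem_centralizer_singleton_iff.2 hyb.symm)) hdb'
  have hPl := hplane hx hgx hdI.1 hg1 hdg
  obtain ⟨hy, hyPl⟩ := h.eig_D hC hD' hB hAC inf_le_left hx.card_plane hyD hy1 (hPl.le.trans hgy)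
  have hyM : y ∈ M := hgM.1 (mem_centralizer_singleton_iff.2 hyg)
  obtain ⟨Dm, t, _, b'', hDm, hb''B, hb''1, hb''y, hb''M, hall''⟩ :=
    h.exists_data hB hC hy hAC hM hAM hyM (Ne.symm hCM)
  have hg'y : g' ∉ centralizer ({y} : Set G) := fun e =>
    hg'x (((hyPl.le ⟨hg'B, e⟩ : g' ∈ B ⊓ centralizer ({x} : Set G))).2)
  obtain ⟨w, hwD, hw1, hwb, hwg'⟩ := (hall'' g' hg'B hg'y).1
  have hwm : m ≤ centralizer ({w} : Set G) := by
    refine sup_le (zpowers_le.2 ?_) (zpowers_le.2 (mem_centralizer_singleton_iff.2 hwg'.symm))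
    exact (zpowers_le.2 (mem_centralizer_singleton_iff.2 hwb.symm))
      (mem_zpowers_of_prime (hgo ▸ hp.out) (hgu b'' hb''B hb''M) hb''1)
  -- `N₀` normalises `⟨w⟩`
  have hgen : ∀ {L : Subgroup G} {k : G}, IsCoatom L → A ≤ L → (∃ q : ℕ, q.Prime ∧ ¬ PRankLE q 2 (fittingOf L)) →
      k ∈ B → orderOf k = p → Good L k → ∀ k' ∈ A, orderOf k' = p → Good L k' → k' ∈ zpowers k := by
    rintro L k hL hAL ⟨q, hq, hqF⟩ hkB hko hkL k' hk'A hk'o hk'L
    have : Fact q.Prime := ⟨hq⟩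
    set Ω := omegaOne p A
    have hΩ : IsElementaryAbelian p Ω := CfsgLib.PGroup.elemAb_omegaOne_of_comm h.comm
    have hBΩ : B ≤ Ω := fun z hz => CfsgLib.PGroup.mem_omegaOne (hB.le hz) (hB.elem.2 z hz)
    have hkΩ : k ∈ Ω := hBΩ hkB
    have hk'Ω : k' ∈ Ω := CfsgLib.PGroup.mem_omegaOne hk'A (hk'o ▸ pow_orderOf_eq_one k')
    obtain ⟨n, hn⟩ := CfsgLib.PGroup.elemAb_card hΩ
    have hS' : (zpowers k ⊔ zpowers k') ≤ Ω := sup_le (zpowers_le.2 hkΩ) (zpowers_le.2 hk'Ω)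
    obtain ⟨i, hi⟩ := CfsgLib.PGroup.elemAb_card (elemAb_mono hΩ hS')
    have hi3 : i ≤ 3 := by
      have h1 := CfsgLib.Solvable.card_sup_dvd_of_le_normalizer (A := zpowers k) (X := zpowers k')
        ((zpowers_le.2 (mem_centralizer_iff.2 fun z hz => elemAb_comm hΩ (zpowers_le.2 hkΩ hz) hk'Ω)).trans
          (centralizer_le_normalizer _))
      rw [Nat.card_zpowers, Nat.card_zpowers, hko, hk'o, hi, ← pow_two] at h1
      have := (Nat.pow_dvd_pow_iff_le_right hp.out.one_lt).1 h1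
      omega
    have h3 : p ^ 3 ∣ Nat.card Ω := hB.card ▸ card_dvd_of_le hBΩ
    obtain ⟨B', hB'c, hle'⟩ := Sylow.exists_subgroup_card_pow_prime_le (G := Ω) p h3
      ((zpowers k ⊔ zpowers k').subgroupOf Ω)
      (by rw [Nat.card_congr (subgroupOfEquivOfLe hS').toEquiv, hi]) hi3
    have hB' : IsCube p A (B'.map Ω.subtype) := ⟨(map_subtype_le _).trans (CfsgLib.PGroup.omegaOne_le p A),
      elemAb_mono hΩ (map_subtype_le _), (card_map_of_injective Ω.subtype_injective).trans hB'c⟩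
    obtain ⟨k₀, -, -, hk₀o, -, hk₀u, -⟩ := h.exists_good hB' hL hAL hqF
    have hin : ∀ z ∈ zpowers k ⊔ zpowers k', z ∈ B'.map Ω.subtype := fun z hz =>
      ⟨⟨z, hS' hz⟩, hle' (mem_subgroupOf.2 hz), rfl⟩
    have e1 := hk₀u k (hin k (mem_sup_left (mem_zpowers k))) hkL
    have e2 := hk₀u k' (hin k' (mem_sup_right (mem_zpowers k'))) hk'L
    rw [zpowers_eq_of_mem hk₀o e1 (fun e => hp.out.ne_one (by rw [← hko, e, orderOf_one]))]
    exact e2
  have hg'C : S ≤ centralizer ({g'} : Set G) := by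
    intro v hv
    rw [mem_centralizer_singleton_iff]
    have hgS : zpowers g' ≤ S := zpowers_le.2 (hAS (hB.le hg'B))
    have hn : S ≤ normalizer (zpowers g' : Set G) := fun v hv => CfsgLib.Solvable.mem_normalizer_of_conj_mem
      fun z hz => by
        obtain ⟨i, rfl⟩ := mem_zpowers_iff.1 hz
        rw [← conj_zpow]
        exact zpow_mem (hg'u _ ((mem_normalizer_iff.1 (hSB hv) g').1 hg'B) (good_conj hg'R (hSR hv))) i
    have : ((zpowers g').subgroupOf S).Normal := (normal_subgroupOf_iff_le_normalizer hgS).2 hn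
    have hcard : Nat.card ((zpowers g').subgroupOf S) = p := by
      rw [Nat.card_congr (subgroupOfEquivOfLe hgS).toEquiv, Nat.card_zpowers, hg'o]
    have hc := CfsgLib.PGroup.le_center_of_card_eq P.2 _ hcard
    exact congrArg Subtype.val (mem_center_iff.1
      (hc (show (⟨g', hgS (mem_zpowers g')⟩ : S) ∈ (zpowers g').subgroupOf S from mem_zpowers g')) ⟨v, hv⟩)
  have hfixed : ∀ {L : Subgroup G} {k : G}, IsCoatom L → A ≤ L → (∃ q : ℕ, q.Prime ∧ ¬ PRankLE q 2 (fittingOf L)) →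
      N₀ ≤ L → k ∈ B → orderOf k = p → Good L k → S ≤ centralizer ({k} : Set G) → ∀ n ∈ N₀,
      n * k * n⁻¹ ∈ zpowers k := by
    intro L k hL hAL hlarge hN₀L hkB hko hkL hkC n hn
    have hkV : k ∈ V := hAV (hB.le hkB)
    have h1 : n * k * n⁻¹ ∈ V := (mem_normalizer_iff.1 (hN₀V hn) k).1 hkV
    refine hgen hL hAL hlarge hkB hko hkL _ ?_ ?_ (good_conj hkL (hN₀L hn))
    · refine h.scn.2.2.le ⟨hVS h1, mem_centralizer_iff.2 fun a ha => ?_⟩
      have h2 : n⁻¹ * a * n ∈ S := hVS ((mem_normalizer_iff''.1 (hN₀V hn) a).1 (hAV ha))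
      have h3 := mem_centralizer_singleton_iff.1 (hkC h2)
      calc a * (n * k * n⁻¹) = n * ((n⁻¹ * a * n) * k) * n⁻¹ := by group
        _ = _ := by rw [h3]; group
    · rw [← hko]
      exact MulEquiv.orderOf_eq (MulAut.conj n) k
  have hNm : N₀ ≤ normalizer (m : Set G) := fun n hn => CfsgLib.Solvable.mem_normalizer_of_conj_mem fun z hz => by
    have hmap : m.map (MulAut.conj n).toMonoidHom ≤ m := by
      rw [hm, Subgroup.map_sup, MonoidHom.map_zpowers, MonoidHom.map_zpowers]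
      exact sup_le_sup (zpowers_le.2 (hfixed hM hAM ⟨q, hq, hqF⟩ hN₀M hgB hgo hgM hgC n hn))
        (zpowers_le.2 (hfixed hR hAR ⟨r, hr, hrF⟩ hN₀R hg'B hg'o hg'R hg'C n hn))
    exact hmap ⟨z, hz, rfl⟩
  have he : Dm ⊓ centralizer (m : Set G) = zpowers w := by
    refine le_antisymm (fun z hz => h.fixed_unique_D hM hDm hB hmB hmc hwD hw1 hz.1 hwm fun a ha =>
      mem_centralizer_singleton_iff.2 (mem_centralizer_iff.1 hz.2 a ha)) (zpowers_le.2 ⟨hwD, ?_⟩)
    exact mem_centralizer_iff.2 fun a ha => mem_centralizer_singleton_iff.1 (hwm ha)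
  have hNw : N₀ ≤ normalizer (zpowers w : Set G) := he ▸ CfsgLib.Solvable.le_normalizer_inf
    (hN₀M.trans hDm.normal) (hNm.trans (CfsgLib.Solvable.normalizer_le_normalizer_centralizer m))
  exact h.not_centralized_D hM hDm hB ((hB.le.trans hAM).trans hDm.normal) hwD hw1
    (((hB.le.trans hAS).trans hSN₀).trans (commutator_le_centralizer hNw))

end ScnHyp

end CfsgLib.OddLocal.ScnThree
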