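import Cfsg.Agent.Lib.OddLocal.FrobeniusAction
import Cfsg.Agent.Lib.OddLocal.RankTwo.Operator
import Cfsg.Agent.Lib.Solvable.Generation

/-!
An element of prime order moved inside its cyclic group by another one, both acting on an `s`-group: if the first
acts nontrivially, the group has rank at least three, and so has any invariant part containing the fixed points of
the second.
-/

set_option autoImplicit false
set_option linter.unusedSectionVars false

namespace CfsgLib.OddLocal.ScnThree

open Cfsg Subgroup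
open scoped commutatorElement

variable {G : Type*} [Group G] [Finite G]

theorem mem_zpowers_of_prime {x y : G} (hx : (orderOf x).Prime) (hy : y ∈ zpowers x) (hy1 : y ≠ 1) :
    x ∈ zpowers y := by
  have h : zpowers y = zpowers x := by
    refine eq_of_le_of_card_ge (zpowers_le.2 hy) ?_
    rw [Nat.card_zpowers, Nat.card_zpowers]
    have hd : orderOf y ∣ orderOf x := Nat.card_zpowers x ▸ Subgroup.orderOf_dvd_natCard (zpowers x) hy
    rcases (Nat.dvd_prime hx).1 hd with h1 | h1
    · exact absurd (orderOf_eq_one_iff.1 h1) hy1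
    · rw [h1]
  exact h.ge (mem_zpowers x)

theorem commute_of_mem_zpowers {x y g : G} (hx : (orderOf x).Prime) (hy : y ∈ zpowers x) (hy1 : y ≠ 1)
    (h : y * g = g * y) : x * g = g * x := by
  obtain ⟨i, hi⟩ := mem_zpowers_iff.1 (mem_zpowers_of_prime hx hy hy1)
  rw [← hi]
  exact ((show Commute y g from h).zpow_left i).eq

variable {s : ℕ} [hs : Fact s.Prime] {x g : G} (hx : (orderOf x).Prime) (hxs : orderOf x ≠ s)
  (hg : (orderOf g).Prime) (hgs : orderOf g ≠ s) (hgx : g ∈ normalizer (zpowers x : Set G))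
  (hne : g * x ≠ x * g)
include hx hxs hg hgs hgx hne

/-- Nontrivial action forces rank at least three. -/
theorem not_pRankLE_of_pair (hs2 : s ≠ 2) (hodd : Odd (Nat.card G)) {T : Subgroup G} (hT : IsPGroup s T)
    (hxT : x ∈ normalizer (T : Set G)) (hgT : g ∈ normalizer (T : Set G))
    (hnc : x ∉ centralizer (T : Set G)) : ¬ PRankLE s 2 T := by
  intro hr
  set Y := zpowers x with hY
  set E := Y ⊔ zpowers g with hE
  have hEN : E ≤ normalizer (T : Set G) := sup_le (zpowers_le.2 hxT) (zpowers_le.2 hgT)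
  have hEY : E ≤ normalizer (Y : Set G) := sup_le le_normalizer (zpowers_le.2 hgx)
  have hgY : zpowers g ≤ normalizer (Y : Set G) := zpowers_le.2 hgx
  have hxE : x ∈ E := mem_sup_left (mem_zpowers x)
  have hgE : g ∈ E := mem_sup_right (mem_zpowers g)
  have : (Y.subgroupOf E).Normal := (normal_subgroupOf_iff_le_normalizer le_sup_left).2 hEY
  have : Group.IsSolvable E := by
    let f := (QuotientGroup.mk' (Y.subgroupOf E)).comp (inclusion (le_sup_right : zpowers g ≤ E))
    have hsurj : Function.Surjective f := by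
      intro z
      induction z using QuotientGroup.induction_on with
      | _ z =>
        obtain ⟨y, hy, h, hh, he⟩ := CfsgLib.Solvable.exists_mul_of_mem_sup hgY z.2
        refine ⟨⟨h, hh⟩, (QuotientGroup.eq).2 (mem_subgroupOf.2 ?_)⟩
        show h⁻¹ * (z : G) ∈ Y
        rw [he]
        have := (mem_normalizer_iff''.1 (hgY hh) y).1 hy
        simpa [mul_assoc] using this
    have hs1 : Group.IsSolvable (zpowers g) := Group.isSolvable_of_comm fun a b => Subtype.ext (by
      obtain ⟨i, hi⟩ := mem_zpowers_iff.1 a.2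
      obtain ⟨j, hj⟩ := mem_zpowers_iff.1 b.2
      show (a : G) * b = b * a
      rw [← hi, ← hj]
      exact ((Commute.refl g).zpow_zpow i j).eq)
    have : Group.IsSolvable (E ⧸ Y.subgroupOf E) := Group.isSolvable_of_surjective hsurj
    have : Group.IsSolvable (Y.subgroupOf E) := Group.isSolvable_of_comm fun a b => Subtype.ext (Subtype.ext (by
      obtain ⟨i, hi⟩ := mem_zpowers_iff.1 (mem_subgroupOf.1 a.2)
      obtain ⟨j, hj⟩ := mem_zpowers_iff.1 (mem_subgroupOf.1 b.2)
      show ((a : E) : G) * (b : E) = (b : E) * (a : E)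
      rw [← hi, ← hj]
      exact ((Commute.refl x).zpow_zpow i j).eq))
    exact Group.isSolvable_of_ker_le_range (Y.subgroupOf E).subtype (QuotientGroup.mk' (Y.subgroupOf E))
      (by rw [QuotientGroup.ker_mk', range_subtype])
  let ψ : E →* MulAut T := (normalizerMonoidHom T).comp (inclusion hEN)
  have hfaith : ∀ a : E, (orderOf a).Coprime s → ψ a = 1 → a = 1 := by
    intro a _ ha
    have haC : (a : G) ∈ centralizer (T : Set G) := mem_centralizer_iff.2 fun t ht => by
      have h1 : ((ψ a ⟨t, ht⟩ : T) : G) = t := by rw [ha]; rfl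
      exact (mul_inv_eq_iff_eq_mul.1 h1).symm
    by_contra ha1
    obtain ⟨y, hy, h, hh, he⟩ := CfsgLib.Solvable.exists_mul_of_mem_sup hgY a.2
    rcases eq_or_ne h 1 with rfl | hh1
    · rw [mul_one] at he
      have hy1 : y ≠ 1 := fun e => ha1 (Subtype.ext (he.trans e))
      refine hnc ?_
      exact (zpowers_le.2 (he ▸ haC : y ∈ centralizer (T : Set G))) (mem_zpowers_of_prime hx hy hy1)
    set c := (a : G) * x * (a : G)⁻¹ * x⁻¹ with hc
    have hcY : c ∈ Y := mul_mem ((mem_normalizer_iff.1 (hEY a.2) x).1 (mem_zpowers x)) (inv_mem (mem_zpowers x))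
    have hcC : c ∈ centralizer (T : Set G) := by
      rw [show c = (a : G) * (x * (a : G)⁻¹ * x⁻¹) by rw [hc]; group]
      exact mul_mem haC ((mem_normalizer_iff.1
        (CfsgLib.Solvable.normalizer_le_normalizer_centralizer T hxT) _).1 (inv_mem haC))
    have hc1 : c ≠ 1 := by
      intro e
      have hcomm : Commute (a : G) x := by
        rw [hc, mul_inv_eq_one, mul_inv_eq_iff_eq_mul] at e
        exact e
      obtain ⟨i, hi⟩ := mem_zpowers_iff.1 hy
      have hyx : Commute y x := hi ▸ (Commute.refl x).zpow_left i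
      have hhx : Commute h x := by
        have := hyx.inv_left.mul_left hcomm
        rwa [he, inv_mul_cancel_left] at this
      exact hne (commute_of_mem_zpowers hg hh hh1 hhx.eq)
    exact hnc ((zpowers_le.2 hcC) (mem_zpowers_of_prime hx hcY hc1))
  obtain ⟨hcomm, -⟩ := CfsgLib.OddLocal.RankTwo.operator_rank_two hT hs2 hr
    (hodd.of_dvd_nat (card_subgroup_dvd_card E)) ψ hfaith
  set c : E := ⁅(⟨g, hgE⟩ : E), (⟨x, hxE⟩ : E)⁆ with hc
  have hcm : c ∈ commutator E := commutator_mem_commutator (mem_top _) (mem_top _)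
  have hc1 : (c : G) ≠ 1 := fun e => hne (commutatorElement_eq_one_iff_mul_comm.1 e)
  have hcY : (c : G) ∈ Y := mul_mem ((mem_normalizer_iff.1 hgx x).1 (mem_zpowers x)) (inv_mem (mem_zpowers x))
  obtain ⟨n, hn⟩ := IsPGroup.iff_orderOf.1 hcomm ⟨c, hcm⟩
  rw [Subgroup.orderOf_mk, ← Subgroup.orderOf_coe] at hn
  have hd : orderOf (c : G) ∣ orderOf x := Nat.card_zpowers x ▸ Subgroup.orderOf_dvd_natCard Y hcY
  rcases (Nat.dvd_prime hx).1 hd with h1 | h1
  · exact hc1 (orderOf_eq_one_iff.1 h1)
  · rw [h1] at hn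
    exact hxs ((Nat.prime_dvd_prime_iff_eq hx hs.out).1 (hx.dvd_of_dvd_pow hn.dvd))

/-- The closure of the fixed points of `g` under `x` has rank at least three. -/
theorem not_pRankLE_of_fixed (hs2 : s ≠ 2) (hodd : Odd (Nat.card G)) {R X : Subgroup G} (hR : IsPGroup s R)
    (hxR : x ∈ normalizer (R : Set G)) (hgR : g ∈ normalizer (R : Set G)) (hnc : x ∉ centralizer (R : Set G))
    (hxX : x ∈ X) (hfix : R ⊓ centralizer ({g} : Set G) ≤ X) :
    R ⊓ centralizer ({g} : Set G) ≠ ⊥ ∧ ¬ PRankLE s 2 ↥(X ⊓ R) := by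
  set W := R ⊓ centralizer ({g} : Set G) with hW
  have hWx : x ∉ centralizer (W : Set G) := by
    intro hxW
    refine hnc ?_
    refine (CfsgLib.OddLocal.commute_of_frobenius_fixed (s := s) hs2 (S := zpowers x) hR hg hgs
      (zpowers_le.2 hxR) hgR hgx (fun u hu hug => ?_) ?_ fun w hw _ hgw u hu => ?_) (mem_zpowers x)
    · by_contra hu1
      exact hne (commute_of_mem_zpowers hx hu hu1 hug).symm
    · rw [Nat.card_zpowers]
      exact (Nat.coprime_primes hx hs.out).2 hxs
    · exact (mem_centralizer_iff.1 (zpowers_le.2 hxW hu) w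
        ⟨hw, mem_centralizer_singleton_iff.2 hgw.symm⟩).symm
  refine ⟨fun hb => hWx (mem_centralizer_iff.2 fun w hw => ?_), fun hr => ?_⟩
  · rw [hb] at hw
    rw [mem_bot.1 hw, one_mul, mul_one]
  set T := ⁅W, zpowers x⁆ ⊔ W with hT
  have hWR : W ≤ R := inf_le_left
  have hTX : T ≤ X ⊓ R := by
    refine sup_le (le_inf ?_ ?_) (le_inf hfix hWR)
    · exact (commutator_mono hfix (zpowers_le.2 hxX)).trans (commutator_le.2 fun a ha b hb => by
        exact mul_mem (mul_mem (mul_mem ha hb) (inv_mem ha)) (inv_mem hb))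
    · exact (commutator_mono hWR le_rfl).trans (CfsgLib.Solvable.commutator_le_of_le_normalizer (zpowers_le.2 hxR))
  have hgW : g ∈ normalizer (W : Set G) := by
    refine CfsgLib.Solvable.le_normalizer_inf (zpowers_le.2 hgR) ?_ (mem_zpowers g)
    exact (zpowers_le.2 (mem_centralizer_singleton_iff.2 rfl)).trans le_normalizer
  have hgT : g ∈ normalizer (T : Set G) := by
    have h1 : zpowers g ≤ normalizer ((⁅W, zpowers x⁆ : Subgroup G) : Set G) :=
      zpowers_le.2 (CfsgLib.Solvable.normalizer_le_normalizer_commutator W _ ⟨hgW, hgx⟩)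
    refine mem_normalizer_iff_map_conj_eq.2 ?_
    show T.map (MulAut.conj g).toMonoidHom = T
    rw [hT, Subgroup.map_sup,
      show (⁅W, zpowers x⁆).map (MulAut.conj g).toMonoidHom = ⁅W, zpowers x⁆ from
        mem_normalizer_iff_map_conj_eq.1 (h1 (mem_zpowers g)),
      show W.map (MulAut.conj g).toMonoidHom = W from mem_normalizer_iff_map_conj_eq.1 hgW]
  have hxT : x ∈ normalizer (T : Set G) := by
    refine CfsgLib.Solvable.mem_normalizer_of_conj_mem ?_
    have hx' : x ∈ normalizer ((⁅W, zpowers x⁆ : Subgroup G) : Set G) :=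
      CfsgLib.Solvable.le_normalizer_commutator_left (zpowers x) W |>.trans_eq
        (by rw [commutator_comm]) (mem_zpowers x)
    intro t ht
    have hle : T.map (MulAut.conj x).toMonoidHom ≤ T := by
      rw [hT, Subgroup.map_sup]
      refine sup_le ?_ ?_
      · rw [show (⁅W, zpowers x⁆).map (MulAut.conj x).toMonoidHom = ⁅W, zpowers x⁆ from
          mem_normalizer_iff_map_conj_eq.1 hx']
        exact le_sup_left
      · rintro _ ⟨w, hw, rfl⟩
        show x * w * x⁻¹ ∈ ⁅W, zpowers x⁆ ⊔ W
        have h1 : ⁅w, x⁆ ∈ ⁅W, zpowers x⁆ := commutator_mem_commutator hw (mem_zpowers x)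
        rw [show x * w * x⁻¹ = ⁅w, x⁆⁻¹ * w by rw [commutatorElement_def]; group]
        exact mul_mem (mem_sup_left (inv_mem h1)) (mem_sup_right hw)
    exact hle ⟨t, ht, rfl⟩
  refine not_pRankLE_of_pair hx hxs hg hgs hgx hne hs2 hodd (hR.to_le (hTX.trans inf_le_right)) hxT hgT
    (fun hc => hWx (centralizer_le (le_sup_right : W ≤ T) hc)) ?_
  rw [CfsgLib.PGroup.pRankLE_subgroup_iff] at hr ⊢
  exact fun B hB => hr B (hB.trans hTX)

end CfsgLib.OddLocal.ScnThree
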