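import Cfsg.Agent.Lib.OddLocal.UniquenessChain

/-!
The standing hypothesis of the proof that a member of `SCN_3(p)` lies in a single maximal subgroup, and its first
consequences.
-/

set_option autoImplicit false
set_option linter.unusedSectionVars false

namespace CfsgLib.OddLocal.ScnThree

open Cfsg Subgroup
open scoped Pointwise
open CfsgLib.Solvable (nilPart nilPart_le le_nilPart isPGroup_nilPart)

variable {G : Type*} [Group G] [Finite G] {p : ℕ} [hp : Fact p.Prime]

/-- A counterexample to uniqueness for a member of `SCN_3(p)`. -/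
structure ScnHyp (P : Sylow p G) (A : Subgroup G) : Prop where
  minSimple : IsMinSimpleOddOrder G
  scn : IsSCN (P : Subgroup G) A
  rank : ¬ PRankLE p 2 A
  notU : ¬ InUniqueMaximal A

/-- An elementary abelian subgroup of order `p ^ 3` of `A`. -/
structure IsCube (p : ℕ) (A B : Subgroup G) : Prop where
  le : B ≤ A
  elem : IsElementaryAbelian p B
  card : Nat.card B = p ^ 3

/-- The core of the centraliser of `A`. -/
def coreA (A : Subgroup G) : Subgroup G :=
  piCoreOf (primesNotDvd (Nat.card A)) (centralizer (A : Set G))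

/-- All maximal `A`-invariant `q`-subgroups and their normalisers lie in `M`. -/
def Captures (A M : Subgroup G) (q : ℕ) : Prop :=
  ∀ Q ∈ maxInvSubgroups ⊤ A {q}, Q ≤ M ∧ normalizer (Q : Set G) ≤ M

/-- `M` is the only maximal subgroup over the centraliser of `b`. -/
def Good (M : Subgroup G) (b : G) : Prop :=
  centralizer ({b} : Set G) ≤ M ∧ ∀ L : Subgroup G, IsCoatom L → centralizer ({b} : Set G) ≤ L → L = M

/-- An element of prime order of `M` moved by `B` inside its own cyclic group, with all that hangs on it in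
`M`. -/
structure Eig (p : ℕ) (A B M : Subgroup G) (x : G) : Prop where
  prime : (orderOf x).Prime
  ne : orderOf x ≠ p
  mem : x ∈ M
  le_normalizer : B ≤ normalizer (zpowers x : Set G)
  card_plane : Nat.card ↥(B ⊓ centralizer ({x} : Set G)) = p ^ 2
  centralizer_le : centralizer ({x} : Set G) ≤ M
  coreA_le : coreA A ≤ M
  captures : Captures A M (orderOf x)

omit [Finite G] hp in
theorem le_centralizer_singleton {S : Subgroup G} {x : G} (h : ∀ s ∈ S, s * x = x * s) :
    S ≤ centralizer ({x} : Set G) := fun s hs => mem_centralizer_singleton_iff.2 (h s hs)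

omit [Finite G] hp in
theorem le_centralizer_zpowers {S : Subgroup G} {x : G} (h : S ≤ centralizer ({x} : Set G)) :
    S ≤ centralizer (zpowers x : Set G) :=
  le_centralizer_iff.1 (zpowers_le.2 (mem_centralizer_iff.2 fun s hs =>
    mem_centralizer_singleton_iff.1 (h hs)))

theorem le_centralizer_of_cyclic {q : ℕ} {S Z : Subgroup G} {x : G} (hq : q.Prime) (hZ : Nat.card Z = q)
    (hx : x ∈ Z) (hx1 : x ≠ 1) (h : S ≤ centralizer ({x} : Set G)) : S ≤ centralizer (Z : Set G) := by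
  have hZx : Z = zpowers x := by
    refine (eq_of_le_of_card_ge (zpowers_le.2 hx) ?_).symm
    rw [hZ, Nat.card_zpowers]
    refine (Nat.le_of_dvd (orderOf_pos x) ?_)
    rcases (Nat.dvd_prime hq).1 (hZ ▸ orderOf_dvd_natCard Z hx) with h1 | h1
    · exact absurd (orderOf_eq_one_iff.1 h1) hx1
    · rw [h1]
  rw [hZx]
  exact le_centralizer_zpowers h

/-- Two distinct subgroups of order `p ^ 2` of a cube meet in a subgroup of order `p`. -/
theorem IsCube.exists_inter {A B D₁ D₂ : Subgroup G} (hB : IsCube p A B) (h₁ : D₁ ≤ B) (h₂ : D₂ ≤ B)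
    (c₁ : Nat.card D₁ = p ^ 2) (c₂ : Nat.card D₂ = p ^ 2) (hne : D₁ ≠ D₂) :
    ∃ g, g ≠ 1 ∧ D₁ ⊓ D₂ = zpowers g ∧ orderOf g = p := by
  have hd : Nat.card ↥(D₁ ⊓ D₂) ∣ p ^ 2 := c₁ ▸ card_dvd_of_le inf_le_left
  obtain ⟨i, hi2, hi⟩ := (Nat.dvd_prime_pow hp.out).1 hd
  have hne2 : i ≠ 2 := by
    rintro rfl
    refine hne ?_
    have e1 := eq_of_le_of_card_ge (inf_le_left : D₁ ⊓ D₂ ≤ D₁) (by rw [c₁, hi])
    have e2 := eq_of_le_of_card_ge (inf_le_right : D₁ ⊓ D₂ ≤ D₂) (by rw [c₂, hi])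
    exact e1.symm.trans e2
  have hne0 : i ≠ 0 := by
    rintro rfl
    rw [pow_zero] at hi
    have hdis : Disjoint D₁ D₂ := disjoint_iff.2 (eq_bot_of_card_eq _ hi)
    have h := Nat.card_le_card_of_injective
      (fun x : D₁ × D₂ => (⟨(x.1 : G) * x.2, mul_mem (h₁ x.1.2) (h₂ x.2.2)⟩ : B))
      (fun a b hab => mul_injective_of_disjoint hdis (congrArg Subtype.val hab))
    rw [Nat.card_prod, c₁, c₂, hB.card, ← pow_add] at h
    exact absurd h (not_le.2 (Nat.pow_lt_pow_right hp.out.one_lt (by norm_num)))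
  have hi1 : i = 1 := by omega
  rw [hi1, pow_one] at hi
  obtain ⟨g, hg, hg1⟩ := (bot_or_exists_ne_one (D₁ ⊓ D₂)).resolve_left fun h => hp.out.ne_one
    (by rw [← hi, h, card_bot])
  have ho : orderOf g = p := CfsgLib.PGroup.elemAb_orderOf hB.elem (h₁ hg.1) hg1
  exact ⟨g, hg1, (eq_of_le_of_card_ge (zpowers_le.2 hg) (by rw [hi, Nat.card_zpowers, ho])).symm, ho⟩

theorem Eig.not_le {A B M : Subgroup G} {x : G} (hx : Eig p A B M x) (hB : IsCube p A B) :
    ¬ B ≤ centralizer ({x} : Set G) := by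
  intro h
  have := hx.card_plane
  rw [inf_eq_left.2 h, hB.card] at this
  exact absurd (Nat.pow_right_injective hp.out.two_le this) (by norm_num)

theorem Eig.ne_one {A B M : Subgroup G} {x : G} (hx : Eig p A B M x) : x ≠ 1 := fun h =>
  hx.prime.ne_one (h ▸ orderOf_one)

namespace ScnHyp

variable {P : Sylow p G} {A : Subgroup G} (h : ScnHyp P A)
include h

theorem comm : ∀ a ∈ A, ∀ b ∈ A, a * b = b * a := fun a ha _ hb =>
  (mem_centralizer_iff.1 (h.scn.2.2.ge hb).2 a ha)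

theorem isMulCommutative : IsMulCommutative A := ⟨⟨fun a b => Subtype.ext (h.comm a a.2 b b.2)⟩⟩

theorem isPGroup : IsPGroup p A := P.2.to_le h.scn.1

theorem ne_bot : A ≠ ⊥ := by
  rintro rfl
  refine h.rank fun B _ _ => (card_le_card_group B).trans ?_
  rw [card_bot]
  exact Nat.one_le_pow _ _ hp.out.pos

theorem dvd_card : p ∣ Nat.card G := by
  obtain ⟨i, hi⟩ := IsPGroup.iff_card.1 h.isPGroup
  refine (dvd_pow_self p (fun h0 : i = 0 => h.ne_bot (eq_bot_of_card_eq _ (by rw [hi, h0, pow_zero])))).trans ?_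
  exact hi ▸ card_subgroup_dvd_card A

theorem ne_two : p ≠ 2 := ne_two_of_dvd h.minSimple h.dvd_card

theorem ne_top_of_pGroup {V : Subgroup G} (hV : IsPGroup p V) : V ≠ ⊤ := fun e =>
  not_isPGroup_minSimple h.minSimple p ((e ▸ hV).of_equiv (topEquiv : (⊤ : Subgroup G) ≃* G))

theorem primes_eq : primesNotDvd (Nat.card A) = primesNotDvd p := primesNotDvd_pGroup h.isPGroup h.ne_bot

theorem not_dvd {q : ℕ} (hq : q.Prime) (hqp : q ≠ p) : ¬ q ∣ Nat.card A := by
  obtain ⟨i, hi⟩ := IsPGroup.iff_card.1 h.isPGroup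
  rw [hi]
  exact fun hd => hqp ((Nat.prime_dvd_prime_iff_eq hq hp.out).1 (hq.dvd_of_dvd_pow hd))

theorem transitivity : TransitivityHypothesis A :=
  Cfsg.Agent.S1396.result h.minSimple p h.dvd_card A h.isPGroup h.isMulCommutative
    (Or.inr ⟨P, h.scn, fun h1 => h.rank fun B hB hB' =>
      (h1 B hB hB').trans (Nat.pow_le_pow_right hp.out.pos one_le_two)⟩)

theorem conj_core {q : ℕ} (hq : q.Prime) (hqp : q ≠ p) :
    ∀ Q₁ ∈ maxInvSubgroups ⊤ A {q}, ∀ Q₂ ∈ maxInvSubgroups ⊤ A {q},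
      ∃ k ∈ piCoreOf (primesNotDvd (Nat.card A)) (centralizer (A : Set G)),
        Q₂ = Q₁.map (MulAut.conj k).toMonoidHom := by
  refine Cfsg.Agent.S1393.result h.minSimple A h.transitivity ?_ q hq (h.not_dvd hq hqp)
  rw [inf_eq_left.2 fun a ha => mem_centralizer_iff.2 fun b hb => h.comm b hb a ha]
  exact fun hr => h.rank (hr p hp.out)

omit h in
theorem coreA_le_centralizer : coreA A ≤ centralizer (A : Set G) := map_subtype_le _

theorem exists_cube : ∃ B : Subgroup G, IsCube p A B := by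
  obtain ⟨B, hBA, hB, hBc⟩ := exists_elementary_of_not_pRankLE h.rank
  obtain ⟨n, hn⟩ := CfsgLib.PGroup.elemAb_card hB
  have h3 : p ^ 3 ∣ Nat.card B := by
    rw [hn] at hBc ⊢
    exact pow_dvd_pow p ((Nat.pow_le_pow_iff_right hp.out.one_lt).1 hBc)
  obtain ⟨K, hK⟩ := Sylow.exists_subgroup_card_pow_prime p h3
  exact ⟨K.map B.subtype, (map_subtype_le _).trans hBA, CfsgLib.PGroup.elemAb_mono hB (map_subtype_le _),
    (card_map_of_injective B.subtype_injective).trans hK⟩

theorem not_le_centralizer_of_inUnique {X D : Subgroup G} (hX : InUniqueMaximal X) (hDA : D ≤ A)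
    (hD : IsElementaryAbelian p D) (hDc : p ^ 2 ≤ Nat.card D) (hDX : D ≤ centralizer (X : Set G)) : False :=
  h.notU (inUnique_mono h.minSimple (inUnique_of_centralizes h.minSimple hX hDX le_rfl hD hDc) hDA
    (h.ne_top_of_pGroup h.isPGroup))

theorem not_inUnique_cube {E : Subgroup G} (hE : IsElementaryAbelian p E) (hEc : p ^ 3 ≤ Nat.card E)
    (hU : InUniqueMaximal E) : False := by
  obtain ⟨B, hB⟩ := h.exists_cube
  exact h.notU (inUnique_mono h.minSimple (inUnique_elementary_three h.minSimple hE hEc hU hB.elem hB.card.ge)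
    hB.le (h.ne_top_of_pGroup h.isPGroup))

theorem pRankLE_fitting {M : Subgroup G} (hM : IsCoatom M) : PRankLE p 2 (fittingOf M) := by
  by_contra hF
  obtain ⟨E, hE, hEc, hU⟩ := exists_elementary_three_inUnique h.minSimple hM hF
  exact h.not_inUnique_cube hE hEc hU

/-- Not all `A`-invariant `p'`-subgroups lie in one maximal subgroup over `A`. -/
theorem false_of_invariant_le {M : Subgroup G} (hM : IsCoatom M) (hAM : A ≤ M)
    (hinv : ∀ q : ℕ, q.Prime → q ≠ p → ∀ Q ∈ maxInvSubgroups ⊤ A {q}, Q ≤ M) : False := by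
  refine h.notU (unique_of_invariant_le h.minSimple hM hAM h.isPGroup ?_ fun Y hY hAY => ?_)
  · obtain ⟨B, hB⟩ := h.exists_cube
    exact fun hc => not_isCyclic_of_elementary hB.elem
      (by rw [hB.card]; exact Nat.pow_le_pow_right hp.out.pos (by norm_num)) (isCyclic_of_le_cyclic hB.le hc)
  have hYs : Group.IsSolvable Y := by
    refine h.minSimple.2.2.2 Y fun e => ?_
    exact hY p hp.out (by rw [e, card_top]; exact h.dvd_card) rfl
  have hcop : (Nat.card A).Coprime (Nat.card Y) := Nat.coprime_of_dvd fun r hr h1 h2 =>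
    h.not_dvd hr (hY r hr h2) h1
  refine subgroupOf_eq_top.1 (CfsgLib.Solvable.eq_top_of_sylow_le fun r hr => ?_)
  have : Fact r.Prime := ⟨hr⟩
  obtain ⟨S, hS⟩ := CfsgLib.Solvable.exists_invariant_sylow (A := A) (K := Y) hAY hcop (Or.inr hYs) r
  refine ⟨S, fun y hy => mem_subgroupOf.2 ?_⟩
  by_cases hrY : r ∣ Nat.card Y
  · obtain ⟨Q, hQ, hle⟩ := CfsgLib.PStab.exists_maxInvSubgroup_ge (A := A) (q := r)
      (R := (S : Subgroup Y).map Y.subtype) ⟨le_top, CfsgLib.PStab.isPGroup_iff_primes.1 (S.2.map _), hS⟩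
    exact hinv r hr (hY r hr hrY) Q hQ (hle (mem_map_of_mem _ hy))
  · have h1 : (S : Subgroup Y) = ⊥ := card_eq_one.1
      (by rw [S.card_eq_multiplicity, Nat.factorization_eq_zero_of_not_dvd hrY, pow_zero])
    rw [h1, mem_bot] at hy
    subst hy
    exact one_mem _

section Large

variable {M : Subgroup G} (hM : IsCoatom M) {q : ℕ} [hq : Fact q.Prime] (hF : ¬ PRankLE q 2 (fittingOf M))
include hM hF

theorem ne_of_large : q ≠ p := fun e => hF (e ▸ h.pRankLE_fitting hM)

theorem inUnique_of_large {E : Subgroup G} (hE : IsElementaryAbelian q E) (hEc : q ^ 3 ≤ Nat.card E) :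
    InUniqueMaximal E := by
  obtain ⟨E₀, hE₀, hE₀c, hU⟩ := exists_elementary_three_inUnique h.minSimple hM hF
  exact inUnique_elementary_three h.minSimple hE₀ hE₀c hU hE hEc

theorem eq_of_cube_le {E L L' : Subgroup G} (hE : IsElementaryAbelian q E) (hEc : q ^ 3 ≤ Nat.card E)
    (hL : IsCoatom L) (hL' : IsCoatom L') (hEL : E ≤ L) (hEL' : E ≤ L') : L = L' := by
  obtain ⟨M₀, -, huniq⟩ := h.inUnique_of_large hM hF hE hEc
  rw [huniq L ⟨hL, hEL⟩, huniq L' ⟨hL', hEL'⟩]

theorem exists_cube_fitting :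
    ∃ E : Subgroup G, E ≤ nilPart q (fittingOf M) ∧ IsElementaryAbelian q E ∧ q ^ 3 ≤ Nat.card E := by
  obtain ⟨E, hEF, hE, hEc⟩ := exists_elementary_of_not_pRankLE hF
  exact ⟨E, le_nilPart (isNilpotent_fittingOf M) hEF (isPGroup_of_elementary hE), hE, hEc⟩

theorem captures (hAM : A ≤ M) (hK : coreA A ≤ M) : Captures A M q := by
  obtain ⟨E, hEF, hE, hEc⟩ := h.exists_cube_fitting hM hF
  have hEM : E ≤ M := hEF.trans (nilPart_le.trans (fittingOf_le M))
  obtain ⟨Q₀, hQ₀, hle⟩ := CfsgLib.PStab.exists_maxInvSubgroup_ge (A := A) (q := q)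
    (R := nilPart q (fittingOf M))
    ⟨le_top, CfsgLib.PStab.isPGroup_iff_primes.1 isPGroup_nilPart,
      hAM.trans (le_normalizer_nilPart_fittingOf q M)⟩
  have hQq : IsPGroup q Q₀ := CfsgLib.PStab.isPGroup_iff_primes.2 hQ₀.1.2.1
  have hEQ : E ≤ Q₀ := hEF.trans hle
  have hQtop : Q₀ ≠ ⊤ := fun e =>
    not_isPGroup_minSimple h.minSimple q ((e ▸ hQq).of_equiv (topEquiv : (⊤ : Subgroup G) ≃* G))
  have hQ1 : Q₀ ≠ ⊥ := by
    rintro rfl
    rw [le_bot_iff.1 hEQ, card_bot] at hEc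
    exact (Nat.one_lt_pow three_ne_zero hq.out.one_lt).not_ge hEc
  obtain ⟨L, hL, hNL⟩ := exists_isCoatom_ge h.minSimple
    (CfsgLib.PStab.normalizer_ne_top_of_minSimple h.minSimple hQ1 hQtop)
  obtain rfl := h.eq_of_cube_le hM hF hE hEc hL hM (hEQ.trans (le_normalizer.trans hNL)) hEM
  intro Q hQ
  obtain ⟨k, hk, rfl⟩ := h.conj_core hq.out (h.ne_of_large hM hF) Q₀ hQ₀ Q hQ
  refine ⟨?_, ?_⟩
  · rintro _ ⟨x, hx, rfl⟩
    exact mul_mem (mul_mem (hK hk) (hNL (le_normalizer hx))) (inv_mem (hK hk))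
  · rw [← Subgroup.map_equiv_normalizer_eq]
    rintro _ ⟨x, hx, rfl⟩
    exact mul_mem (mul_mem (hK hk) (hNL hx)) (inv_mem (hK hk))

end Large

/-- The normaliser of a `p`-group over `A` and a maximal invariant `q`-subgroup of it. -/
theorem normalizer_le {V : Subgroup G} (hV : IsPGroup p V) (hAV : A ≤ V) {q : ℕ} (hq : q.Prime) (hqp : q ≠ p)
    {Q : Subgroup G} (hQ : Q ∈ maxInvSubgroups ⊤ V {q}) :
    Q ∈ maxInvSubgroups ⊤ A {q} ∧ ∃ O : Subgroup G, O ≤ coreA A ∧ O ≤ centralizer (V : Set G) ∧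
      normalizer (V : Set G) ≤ normalizer (O : Set G) ∧
      normalizer (V : Set G) = O ⊔ (normalizer (V : Set G) ⊓ normalizer (Q : Set G)) := by
  have hAp := h.isPGroup
  obtain ⟨i, hi⟩ := IsPGroup.iff_card.1 hAp
  have hi0 : i ≠ 0 := fun h0 => h.ne_bot (eq_bot_of_card_eq _ (by rw [hi, h0, pow_zero]))
  have hVπ : ∀ r : ℕ, r.Prime → r ∣ Nat.card V → r ∣ Nat.card A := by
    intro r hr hd
    obtain ⟨j, hj⟩ := IsPGroup.iff_card.1 hV
    rw [(Nat.prime_dvd_prime_iff_eq hr hp.out).1 (hr.dvd_of_dvd_pow (hj ▸ hd)), hi]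
    exact dvd_pow_self p hi0
  have : Group.IsNilpotent V := hV.isNilpotent
  obtain ⟨hK, -, hsub, hall⟩ := Cfsg.Agent.S1395.result h.minSimple A h.transitivity q hq (h.not_dvd hq hqp) V
    (h.ne_top_of_pGroup hV) hVπ hAV (CfsgLib.PGroup.isSubnormal_of_isNilpotent _) (h.conj_core hq hqp)
  refine ⟨hsub hQ, _, hK.symm.le.trans inf_le_left, hK.symm.le.trans inf_le_right, ?_, (hall Q hQ).2⟩
  exact (CfsgLib.Solvable.normalizer_le_normalizer_centralizer _).trans
    (CfsgLib.PStab.normalizer_le_normalizer_piCoreOf _ _)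

end ScnHyp

end CfsgLib.OddLocal.ScnThree
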